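import Groth.Agent.FibDescLoc.Space
import Groth.Agent.FibDescSplit.Cech
import Mathlib

/-!
# Cohomological descent is local on the base
-/

set_option backward.isDefEq.respectTransparency false
set_option backward.isDefEq.respectTransparency.types false
set_option linter.style.haveILetI false
set_option linter.unusedSectionVars false
set_option autoImplicit false
set_option synthInstance.maxHeartbeats 400000
set_option maxHeartbeats 1600000

universe u

open CategoryTheory CategoryTheory.Limits Opposite TopologicalSpace Simplicial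

namespace Groth.Agent.FibDescLoc

open ZeroObject
open FibDescSplit (Sh res Yn ya ym yπ ylift yn_hom_ext ylift_π ylift_a ym_π ym_ya yπ_f)

/-- isomorphisms of sheaves are detected on an open cover -/
theorem isIso_of_cover {S : TopCat.{u}} {κ : Type*} (T : κ → TopCat.{u}) (j : ∀ k, T k ⟶ S)
    (hj : ∀ k, Topology.IsOpenEmbedding (j k)) (hcov : ∀ s : S, ∃ k, s ∈ Set.range (j k))
    {F G : Sh (Opens.grothendieckTopology S)} (f : F ⟶ G)
    (h : ∀ k, haveI := (hj k).functor_isContinuous
      IsIso ((res (hj k).functor (Opens.grothendieckTopology (T k)) (Opens.grothendieckTopology S)).map f)) :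
    IsIso f := by
  have hb : ∀ (k : κ) (W : Opens S), (W : Set S) ⊆ Set.range (j k) → Function.Bijective (f.hom.app (op W)) := by
    intro k W hW
    haveI := (hj k).functor_isContinuous
    have e : (hj k).functor.obj ((Opens.map (j k)).obj W) = W :=
      Opens.ext (Set.image_preimage_eq_of_subset hW)
    haveI := h k
    haveI : IsIso (((sheafToPresheaf _ AddCommGrpCat.{u}).map
      ((res (hj k).functor (Opens.grothendieckTopology (T k)) (Opens.grothendieckTopology S)).map f)).app
        (op ((Opens.map (j k)).obj W))) := inferInstance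
    have h2 : Function.Bijective (f.hom.app (op ((hj k).functor.obj ((Opens.map (j k)).obj W)))) :=
      ConcreteCategory.bijective_of_isIso (((sheafToPresheaf _ AddCommGrpCat.{u}).map
        ((res (hj k).functor (Opens.grothendieckTopology (T k)) (Opens.grothendieckTopology S)).map f)).app
          (op ((Opens.map (j k)).obj W)))
    rwa [e] at h2
  haveI : (Opens.grothendieckTopology S).HasSheafCompose (forget AddCommGrpCat.{u}) := inferInstance
  refine (Sheaf.isLocallyBijective_iff_isIso (A := AddCommGrpCat.{u}) f).1 ⟨⟨fun {X} a b hab x hx => ?_⟩, ⟨fun {U} t x hx => ?_⟩⟩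
  · obtain ⟨k, hk⟩ := hcov x
    let W : Opens S := X.unop ⊓ ⟨Set.range (j k), (hj k).isOpen_range⟩
    refine ⟨W, homOfLE inf_le_left, (hb k W fun y hy => hy.2).1 ?_, ⟨hx, hk⟩⟩
    rw [NatTrans.naturality_apply, NatTrans.naturality_apply, hab]
  · obtain ⟨k, hk⟩ := hcov x
    let W : Opens S := U ⊓ ⟨Set.range (j k), (hj k).isOpen_range⟩
    obtain ⟨s, hs⟩ := (hb k W fun y hy => hy.2).2 (G.obj.map (homOfLE (inf_le_left : W ≤ U)).op t)
    exact ⟨W, homOfLE inf_le_left, ⟨s, hs⟩, ⟨hx, hk⟩⟩

theorem isZero_of_cover {S : TopCat.{u}} {κ : Type*} (T : κ → TopCat.{u}) (j : ∀ k, T k ⟶ S)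
    (hj : ∀ k, Topology.IsOpenEmbedding (j k)) (hcov : ∀ s : S, ∃ k, s ∈ Set.range (j k))
    (F : Sh (Opens.grothendieckTopology S))
    (h : ∀ k, haveI := (hj k).functor_isContinuous
      IsZero ((res (hj k).functor (Opens.grothendieckTopology (T k)) (Opens.grothendieckTopology S)).obj F)) :
    IsZero F := by
  have : IsIso (0 : F ⟶ 0) := isIso_of_cover T j hj hcov _ fun k => by
    haveI := (hj k).functor_isContinuous
    have h0 : IsZero ((res (hj k).functor (Opens.grothendieckTopology (T k)) (Opens.grothendieckTopology S)).obj 0) :=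
      Functor.map_isZero _ (isZero_zero _)
    exact ⟨0, (h k).eq_of_src _ _, h0.eq_of_src _ _⟩
  exact (isZero_zero _).of_iso (asIso (0 : F ⟶ 0))

variable {X S T : TopCat.{u}} (f : X ⟶ S) (j : T ⟶ S)

/-- the map of Cech nerves in degree `n` -/
noncomputable def restrN (n : SimplexCategory) : Yn (pullback.snd f j) n ⟶ Yn f n :=
  ylift f n (ya (pullback.snd f j) n ≫ j) (fun k => yπ (pullback.snd f j) n k ≫ pullback.fst f j) (fun k => by
    rw [Category.assoc, pullback.condition, ← Category.assoc, yπ_f])

theorem restrN_π (n : SimplexCategory) (k : Fin (n.len + 1)) :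
    restrN f j n ≫ yπ f n k = yπ (pullback.snd f j) n k ≫ pullback.fst f j := ylift_π _ _ _ _ _ _

theorem restrN_a (n : SimplexCategory) : restrN f j n ≫ ya f n = ya (pullback.snd f j) n ≫ j :=
  ylift_a _ _ _ _ _

/-- the map of augmented Cech nerves induced by a base change -/
noncomputable def restrMap : FibDesc.cechAug (pullback.snd f j) ⟶ FibDesc.cechAug f where
  app x := match x with
    | ⟨.star⟩ => j
    | ⟨.of n⟩ => restrN f j n
  naturality := fun a b φ => by
    obtain ⟨a⟩ := a; obtain ⟨b⟩ := b
    obtain ⟨φ⟩ := φ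
    match b, a with
    | .star, .star =>
      obtain rfl : φ = 𝟙 _ := WithInitial.starInitial.hom_ext _ _
      exact ((congrArg (· ≫ _) ((FibDesc.cechAug (pullback.snd f j)).map_id _)).trans (Category.id_comp _)).trans
        ((congrArg (_ ≫ ·) ((FibDesc.cechAug f).map_id _)).trans (Category.comp_id _)).symm
    | .of n, .star => exact (φ : PEmpty).elim
    | .star, .of n =>
      obtain rfl : φ = WithInitial.homTo n := WithInitial.starInitial.hom_ext _ _
      exact (restrN_a f j n).symm
    | .of n, .of m =>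
      show ym (pullback.snd f j) φ ≫ restrN f j n = restrN f j m ≫ ym f φ
      refine yn_hom_ext f _ _ (fun k => ?_) ?_
      · rw [Category.assoc, Category.assoc, ym_π, restrN_π, restrN_π, ← Category.assoc, ym_π]
      · rw [Category.assoc, Category.assoc, ym_ya, restrN_a, restrN_a, ← Category.assoc, ym_ya]

theorem isPullback_restrN (n : SimplexCategory) :
    IsPullback (restrN f j n) (ya (pullback.snd f j) n) (ya f n) j := by
  let l : ∀ (W : TopCat.{u}) (a : W ⟶ Yn f n) (b : W ⟶ T), a ≫ ya f n = b ≫ j →
      (W ⟶ Yn (pullback.snd f j) n) := fun W a b w =>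
    ylift (pullback.snd f j) n b (fun k => pullback.lift (a ≫ yπ f n k) b (by rw [Category.assoc, yπ_f, w]))
      (fun k => pullback.lift_snd _ _ _)
  refine ⟨⟨restrN_a f j n⟩, ⟨PullbackCone.IsLimit.mk _ (fun s => l s.pt s.fst s.snd s.condition) (fun s => ?_)
    (fun s => ylift_a _ _ _ _ _) (fun s m h₁ h₂ => ?_)⟩⟩
  · refine yn_hom_ext f _ _ (fun k => ?_) ?_
    · rw [Category.assoc, restrN_π, ← Category.assoc, ylift_π, pullback.lift_fst]
    · rw [Category.assoc, restrN_a, ← Category.assoc, ylift_a]
      exact s.condition.symm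
  · refine yn_hom_ext _ _ _ (fun k => ?_) ?_
    · rw [ylift_π]
      apply pullback.hom_ext
      · rw [pullback.lift_fst, Category.assoc, ← restrN_π, ← Category.assoc, h₁]
      · rw [pullback.lift_snd, Category.assoc, yπ_f]
        exact h₂
    · rw [ylift_a]
      exact h₂

theorem restrN_isOpenEmbedding (hj : Topology.IsOpenEmbedding j) (n : SimplexCategory) :
    Topology.IsOpenEmbedding (restrN f j n) := by
  rw [← (isPullback_restrN f j n).isoPullback_hom_fst]
  exact (TopCat.fst_isOpenEmbedding_of_right (ya f n) hj).comp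
    (TopCat.homeoOfIso (isPullback_restrN f j n).isoPullback).isOpenEmbedding

theorem range_restrN (n : SimplexCategory) (y : Yn f n) (hy : ya f n y ∈ Set.range j) :
    y ∈ Set.range (restrN f j n) := by
  obtain ⟨t, ht⟩ := hy
  have hy' : y ∈ Set.range (pullback.fst (ya f n) j) := by
    rw [TopCat.pullback_fst_range]
    exact ⟨t, ht.symm⟩
  obtain ⟨z, rfl⟩ := hy'
  refine ⟨(isPullback_restrN f j n).isoPullback.inv z, ?_⟩
  exact ConcreteCategory.congr_hom (isPullback_restrN f j n).isoPullback_inv_fst z

/-- cohomological descent is local on the base -/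
theorem isCohDescentMap_of_cover {κ : Type*} (T : κ → TopCat.{u}) (j : ∀ k, T k ⟶ S)
    (hj : ∀ k, Topology.IsOpenEmbedding (j k)) (hcov : ∀ s : S, ∃ k, s ∈ Set.range (j k))
    (h : ∀ k, FibDesc.IsCohDescentMap (pullback.snd f (j k))) : FibDesc.IsCohDescentMap f := by
  have hτ : ∀ (k : κ) (x : (WithInitial SimplexCategory)ᵒᵖ), Topology.IsOpenEmbedding ((restrMap f (j k)).app x) := by
    rintro k ⟨(n | _)⟩
    · exact restrN_isOpenEmbedding f (j k) (hj k) n
    · exact hj k
  have hcart : ∀ (k : κ) (x : (WithInitial SimplexCategory)ᵒᵖ) (y : (FibDesc.cechAug f).obj x),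
      (FibDesc.cechAug f).map (toBot x) y ∈ Set.range ((restrMap f (j k)).app (FibDesc.bot SimplexCategory)) →
        y ∈ Set.range ((restrMap f (j k)).app x) := by
    rintro k ⟨(n | _)⟩ y hy
    · refine range_restrN f (j k) n y ?_
      rw [show ya f n = (FibDesc.cechAug f).map (toBot (op (WithInitial.of n))) from
        congrArg _ (Quiver.Hom.unop_inj (WithInitial.starInitial.hom_ext _ _))]
      exact hy
    · rw [show toBot (op (WithInitial.star : WithInitial SimplexCategory)) = 𝟙 _ from
        Quiver.Hom.unop_inj (WithInitial.starInitial.hom_ext _ _), (FibDesc.cechAug f).map_id] at hy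
      exact hy
  rw [FibDesc.IsCohDescentMap, isCohDescentTop_iff_good]
  have hr := fun k Z => good_restrict (restrMap f (j k)) (hτ k) (hcart k)
    ((isCohDescentTop_iff_good _).1 (h k)) Z
  exact fun Z => ⟨isIso_of_cover T j hj hcov _ fun k => (hr k Z).1,
    fun q hq => isZero_of_cover T j hj hcov _ fun k => (hr k Z).2 q hq⟩

/-- a map which has sections locally on the base is universally of cohomological descent -/
theorem isUnivCohDescentMap_of_local_sections
    (h : ∀ s : S, ∃ V : Opens S, s ∈ V ∧ ∃ σ : C(V, X), ∀ v : V, f (σ v) = v.1) :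
    FibDesc.IsUnivCohDescentMap f := by
  choose V hV σ hσ using h
  intro S' g
  let W : S' → Opens S' := fun s => (Opens.map g).obj (V (g s))
  let jW : ∀ s, TopCat.of (W s) ⟶ S' := fun s => TopCat.ofHom ⟨Subtype.val, continuous_subtype_val⟩
  refine isCohDescentMap_of_cover _ (fun s => TopCat.of (W s)) jW (fun s => (W s).2.isOpenEmbedding_subtypeVal)
    (fun s => ⟨s, ⟨s, hV (g s)⟩, rfl⟩) fun s => ?_
  let sec : TopCat.of (W s) ⟶ X := TopCat.ofHom ((σ (g s)).comp
    ⟨fun w => ⟨g w.1, w.2⟩, ((g.hom.continuous.comp continuous_subtype_val).subtype_mk _)⟩)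
  have hsec : sec ≫ f = jW s ≫ g := by
    ext w
    exact hσ (g s) _
  exact FibDescSplit.isCohDescentMap_of_section (pullback.snd (pullback.snd f g) (jW s)) _ (pullback.lift_snd
    (pullback.lift sec (jW s) hsec) (𝟙 _) (by rw [pullback.lift_snd, Category.id_comp]))

end Groth.Agent.FibDescLoc
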