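import Groth.Agent.FibDescLoc.BiGeneral
import Groth.Agent.FibDescLoc.Local
import Mathlib

/-!
# Cohomological descent after a base change by a map of cohomological descent
-/

set_option backward.isDefEq.respectTransparency false
set_option backward.isDefEq.respectTransparency.types false
set_option linter.style.haveILetI false
set_option linter.unusedSectionVars false
set_option autoImplicit false
set_option synthInstance.maxHeartbeats 400000
set_option maxHeartbeats 1600000

universe u

open CategoryTheory CategoryTheory.Limits Opposite Pseudofunctor Pseudofunctor.CoGrothendieck TopologicalSpace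

namespace Groth.Agent.FibDescLoc

open FibDescSplit (Sh res pb rk pbAdj rkAdj total_hom_ext Yn ya)

attribute [local instance] HasDerivedCategory.standard Mor_isCocontinuous comp_preservesFiniteLimits
  comp_preservesFiniteColimits

local notation "WI" => ((WithInitial SimplexCategory)ᵒᵖ)

variable {X Y S : TopCat.{u}}

/-- the augmentation of the Cech nerve -/
noncomputable def ua (u : X ⟶ S) (x : WI) : (FibDesc.cechAug u).obj x ⟶ S := (FibDesc.cechAug u).map (toBot x)

theorem ua_naturality (u : X ⟶ S) {x y : WI} (f : x ⟶ y) : (FibDesc.cechAug u).map f ≫ ua u y = ua u x := by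
  show (FibDesc.cechAug u).map f ≫ (FibDesc.cechAug u).map (toBot y) = (FibDesc.cechAug u).map (toBot x)
  rw [← (FibDesc.cechAug u).map_comp]
  congr 1

theorem ua_bot (u : X ⟶ S) : ua u (FibDesc.bot SimplexCategory) = 𝟙 S := by
  show (FibDesc.cechAug u).map (toBot _) = _
  rw [show toBot (FibDesc.bot SimplexCategory) = 𝟙 _ from (FibDescSplit.subsingleton_bot _).elim _ _,
    (FibDesc.cechAug u).map_id]
  rfl

instance isIso_ua_bot (u : X ⟶ S) : IsIso (ua u (FibDesc.bot SimplexCategory)) := by
  rw [ua_bot]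
  exact inferInstanceAs (IsIso (𝟙 S))

theorem ua_of (u : X ⟶ S) (n : SimplexCategory) : ua u (op (WithInitial.of n)) = ya u n :=
  congrArg (fun g => (FibDesc.cechAug u).map g) ((FibDescSplit.subsingleton_bot _).elim _ _)

/-- the double Cech nerve -/
noncomputable def bi (u : X ⟶ S) (v : Y ⟶ S) : WI × WI ⥤ TopCat.{u} where
  obj p := pullback (ua u p.1) (ua v p.2)
  map {p q} f := pullback.map _ _ _ _ ((FibDesc.cechAug u).map f.1) ((FibDesc.cechAug v).map f.2) (𝟙 S)
    (by rw [Category.comp_id, ua_naturality]) (by rw [Category.comp_id, ua_naturality])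
  map_id p := by
    apply pullback.hom_ext
    · rw [pullback.lift_fst, Category.id_comp]
      exact (congrArg (_ ≫ ·) ((FibDesc.cechAug u).map_id p.1)).trans (Category.comp_id _)
    · rw [pullback.lift_snd, Category.id_comp]
      exact (congrArg (_ ≫ ·) ((FibDesc.cechAug v).map_id p.2)).trans (Category.comp_id _)
  map_comp f g := by
    apply pullback.hom_ext
    · rw [Category.assoc, pullback.lift_fst, pullback.lift_fst, pullback.lift_fst_assoc]
      exact congrArg (_ ≫ ·) ((FibDesc.cechAug u).map_comp f.1 g.1)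
    · rw [Category.assoc, pullback.lift_snd, pullback.lift_snd, pullback.lift_snd_assoc]
      exact congrArg (_ ≫ ·) ((FibDesc.cechAug v).map_comp f.2 g.2)

variable (u : X ⟶ S) (v : Y ⟶ S)

theorem bi_map_fst {p q : WI × WI} (f : p ⟶ q) :
    (bi u v).map f ≫ pullback.fst (ua u q.1) (ua v q.2) =
      pullback.fst (ua u p.1) (ua v p.2) ≫ (FibDesc.cechAug u).map f.1 :=
  pullback.lift_fst _ _ _

theorem bi_map_snd {p q : WI × WI} (f : p ⟶ q) :
    (bi u v).map f ≫ pullback.snd (ua u q.1) (ua v q.2) =
      pullback.snd (ua u p.1) (ua v p.2) ≫ (FibDesc.cechAug v).map f.2 :=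
  pullback.lift_snd _ _ _

/-- the row -/
noncomputable def rowρ : rowF WI (FibDesc.bot SimplexCategory) ⋙ bi u v ⟶ FibDesc.cechAug v where
  app y := pullback.snd _ _
  naturality x y f := pullback.lift_snd _ _ _

instance rowρ_isIso (y : WI) : IsIso ((rowρ u v).app y) :=
  inferInstanceAs (IsIso (pullback.snd (ua u (FibDesc.bot SimplexCategory)) (ua v y)))

/-- exchanging the factors -/
noncomputable def symT : CategoryTheory.Prod.swap WI WI ⋙ bi u v ⟶ bi v u where
  app p := (pullbackSymmetry (ua u p.2) (ua v p.1)).hom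
  naturality p q f := by
    apply pullback.hom_ext
    · show ((bi u v).map ((f.2, f.1) : (p.2, p.1) ⟶ (q.2, q.1)) ≫ (pullbackSymmetry (ua u q.2) (ua v q.1)).hom) ≫
          pullback.fst (ua v q.1) (ua u q.2) =
        ((pullbackSymmetry (ua u p.2) (ua v p.1)).hom ≫ (bi v u).map f) ≫ pullback.fst (ua v q.1) (ua u q.2)
      rw [Category.assoc, pullbackSymmetry_hom_comp_fst, Category.assoc]
      exact (bi_map_snd u v _).trans ((congrArg ((pullbackSymmetry _ _).hom ≫ ·) (bi_map_fst v u f)).trans
        (pullbackSymmetry_hom_comp_fst_assoc _ _ _)).symm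
    · show ((bi u v).map ((f.2, f.1) : (p.2, p.1) ⟶ (q.2, q.1)) ≫ (pullbackSymmetry (ua u q.2) (ua v q.1)).hom) ≫
          pullback.snd (ua v q.1) (ua u q.2) =
        ((pullbackSymmetry (ua u p.2) (ua v p.1)).hom ≫ (bi v u).map f) ≫ pullback.snd (ua v q.1) (ua u q.2)
      rw [Category.assoc, pullbackSymmetry_hom_comp_snd, Category.assoc]
      exact (bi_map_fst u v _).trans ((congrArg ((pullbackSymmetry _ _).hom ≫ ·) (bi_map_snd v u f)).trans
        (pullbackSymmetry_hom_comp_snd_assoc _ _ _)).symm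

instance symT_isIso (p : WI × WI) : IsIso ((symT u v).app p) :=
  inferInstanceAs (IsIso (pullbackSymmetry (ua u p.2) (ua v p.1)).hom)

/-- exchanging the factors, on the total categories -/
noncomputable abbrev σS : TS (bi v u) ⥤ TS (bi u v) := Mor (CategoryTheory.Prod.swap WI WI) (symT u v)

theorem sym_sym (p : WI × WI) (q : (bi u v).obj p) :
    (symT v u).app p ((symT u v).app (p.2, p.1) q) = q := by
  have e : (symT u v).app (p.2, p.1) ≫ (symT v u).app p = 𝟙 ((bi u v).obj p) := by
    show (pullbackSymmetry (ua u p.1) (ua v p.2)).hom ≫ (pullbackSymmetry (ua v p.2) (ua u p.1)).hom = 𝟙 _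
    apply pullback.hom_ext <;> simp
  exact ConcreteCategory.congr_hom e q

/-- exchanging the factors twice -/
noncomputable def σσ : 𝟭 (TS (bi u v)) ≅ σS v u ⋙ σS u v :=
  NatIso.ofComponents (fun c => tIso (𝟙 _) (𝟙 _) (Category.comp_id _) (Category.comp_id _)
    (fun q hq => by
      show (symT v u).app c.base ((symT u v).app (c.base.2, c.base.1) ((bi u v).map (𝟙 c.base) q)) ∈
        (show Opens ((bi u v).obj c.base) from c.fiber)
      rw [(bi u v).map_id]
      erw [sym_sym]
      exact hq)
    (fun q hq => by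
      have h2 : (symT v u).app c.base ((symT u v).app (c.base.2, c.base.1) q) ∈
        (show Opens ((bi u v).obj c.base) from c.fiber) := hq
      erw [sym_sym] at h2
      show (bi u v).map (𝟙 c.base) q ∈ (show Opens ((bi u v).obj c.base) from c.fiber)
      rw [(bi u v).map_id]
      exact h2))
    (fun f => total_hom_ext ((Category.comp_id _).trans (Category.id_comp _).symm))

instance σS_full : (σS u v).Full :=
  (CategoryTheory.Equivalence.mk (σS u v) (σS v u) (σσ v u) (σσ u v).symm).full_functor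

instance σS_faithful : (σS u v).Faithful :=
  (CategoryTheory.Equivalence.mk (σS u v) (σS v u) (σσ v u) (σσ u v).symm).faithful_functor

/-- exchanging the factors, on the double parts -/
noncomputable def symW : CategoryTheory.Prod.swap SimplexCategoryᵒᵖ SimplexCategoryᵒᵖ ⋙ ZW (Z0 (bi u v)) ⟶ ZW (Z0 (bi v u)) where
  app p := (symT u v).app ((FibDesc.toAug SimplexCategory).obj p.1, (FibDesc.toAug SimplexCategory).obj p.2)
  naturality p q f := (symT u v).naturality
    (((FibDesc.toAug SimplexCategory).map f.1, (FibDesc.toAug SimplexCategory).map f.2) :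
      ((FibDesc.toAug SimplexCategory).obj p.1, (FibDesc.toAug SimplexCategory).obj p.2) ⟶
        ((FibDesc.toAug SimplexCategory).obj q.1, (FibDesc.toAug SimplexCategory).obj q.2))

instance symW_isIso (p : SimplexCategoryᵒᵖ × SimplexCategoryᵒᵖ) : IsIso ((symW u v).app p) :=
  inferInstanceAs (IsIso ((symT u v).app _))

/-- exchanging the factors, on the total categories of the double parts -/
noncomputable abbrev σW : TS (ZW (Z0 (bi v u))) ⥤ TS (ZW (Z0 (bi u v))) :=
  Mor (CategoryTheory.Prod.swap SimplexCategoryᵒᵖ SimplexCategoryᵒᵖ) (symW u v)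

/-- exchanging the factors of the double parts twice -/
noncomputable def σWσW : 𝟭 (TS (ZW (Z0 (bi u v)))) ≅ σW v u ⋙ σW u v :=
  NatIso.ofComponents (fun c => tIso (𝟙 _) (𝟙 _) (Category.comp_id _) (Category.comp_id _)
    (fun q hq => by
      show (symW v u).app c.base ((symW u v).app (c.base.2, c.base.1) ((ZW (Z0 (bi u v))).map (𝟙 c.base) q)) ∈
        (show Opens ((ZW (Z0 (bi u v))).obj c.base) from c.fiber)
      rw [(ZW (Z0 (bi u v))).map_id]
      erw [sym_sym]
      exact hq)
    (fun q hq => by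
      have h2 : (symW v u).app c.base ((symW u v).app (c.base.2, c.base.1) q) ∈
        (show Opens ((ZW (Z0 (bi u v))).obj c.base) from c.fiber) := hq
      erw [sym_sym] at h2
      show (ZW (Z0 (bi u v))).map (𝟙 c.base) q ∈ (show Opens ((ZW (Z0 (bi u v))).obj c.base) from c.fiber)
      rw [(ZW (Z0 (bi u v))).map_id]
      exact h2))
    (fun f => total_hom_ext ((Category.comp_id _).trans (Category.id_comp _).symm))

theorem FF_res_σW : FF (res (σW v u) (tJ (ZW (Z0 (bi u v)))) (tJ (ZW (Z0 (bi v u))))) :=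
  FF_res_inverse _ _ (σW v u) (σW u v) (σWσW u v) (σWσW v u).symm

/-- exchanging the factors commutes with the inclusion of the double part -/
noncomputable def eW : σW v u ⋙ (iF (Z0 (bi v u)) ⋙ jF (bi v u) ⋙ σS u v) ≅
    iF (Z0 (bi u v)) ⋙ jF (bi u v) ⋙ 𝟭 (TS (bi u v)) :=
  NatIso.ofComponents (fun c => tIso (𝟙 _) (𝟙 _) (Category.comp_id _) (Category.comp_id _)
    (fun q hq => by
      have h2 : (symW v u).app c.base
          ((symT u v).app ((FibDesc.toAug SimplexCategory).obj c.base.2, (FibDesc.toAug SimplexCategory).obj c.base.1) q) ∈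
        (show Opens ((ZW (Z0 (bi u v))).obj c.base) from c.fiber) := hq
      erw [sym_sym] at h2
      show (bi u v).map (𝟙 _) q ∈ (show Opens ((ZW (Z0 (bi u v))).obj c.base) from c.fiber)
      rw [(bi u v).map_id]
      exact h2)
    (fun q hq => by
      show (symW v u).app c.base ((symT u v).app
          ((FibDesc.toAug SimplexCategory).obj c.base.2, (FibDesc.toAug SimplexCategory).obj c.base.1)
          ((bi u v).map (𝟙 _) q)) ∈ (show Opens ((ZW (Z0 (bi u v))).obj c.base) from c.fiber)
      rw [(bi u v).map_id]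
      erw [sym_sym]
      exact hq))
    (fun f => total_hom_ext ((Category.comp_id _).trans (Category.id_comp _).symm))

theorem snd_eq_fst (q : (bi u v).obj (FibDesc.bot SimplexCategory, FibDesc.bot SimplexCategory)) :
    (rowρ v u).app (FibDesc.bot SimplexCategory)
        ((symT u v).app (FibDesc.bot SimplexCategory, FibDesc.bot SimplexCategory) q) =
      (rowρ u v).app (FibDesc.bot SimplexCategory) q := by
  have e : (symT u v).app (FibDesc.bot SimplexCategory, FibDesc.bot SimplexCategory) ≫
      (rowρ v u).app (FibDesc.bot SimplexCategory) = (rowρ u v).app (FibDesc.bot SimplexCategory) := by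
    show (pullbackSymmetry (ua u (FibDesc.bot SimplexCategory)) (ua v (FibDesc.bot SimplexCategory))).hom ≫
      pullback.snd _ _ = pullback.snd _ _
    rw [pullbackSymmetry_hom_comp_snd]
    have c := pullback.condition (f := ua u (FibDesc.bot SimplexCategory)) (g := ua v (FibDesc.bot SimplexCategory))
    exact (Category.comp_id _).symm.trans ((congrArg (_ ≫ ·) (ua_bot u).symm).trans
      (c.trans ((congrArg (_ ≫ ·) (ua_bot v)).trans (Category.comp_id _))))
  exact ConcreteCategory.congr_hom e q

/-- the two rows agree at the base -/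
noncomputable def eS : (epsY (FibDesc.cechAug v) ⋙ aY (bi u v) (FibDesc.cechAug v) (rowρ u v) ⋙ 𝟭 (TS (bi u v)) :
      Opens S ⥤ TS (bi u v)) ≅
    (epsY (FibDesc.cechAug u) ⋙ aY (bi v u) (FibDesc.cechAug u) (rowρ v u) ⋙ σS u v : Opens S ⥤ TS (bi u v)) :=
  NatIso.ofComponents (fun U => tIso (𝟙 _) (𝟙 _) (Category.comp_id _) (Category.comp_id _)
    (fun q hq => by
      show (rowρ v u).app (FibDesc.bot SimplexCategory)
        ((symT u v).app (FibDesc.bot SimplexCategory, FibDesc.bot SimplexCategory) ((bi u v).map (𝟙 _) q)) ∈ U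
      rw [(bi u v).map_id]
      erw [snd_eq_fst]
      exact hq)
    (fun q hq => by
      have h2 : (rowρ v u).app (FibDesc.bot SimplexCategory)
        ((symT u v).app (FibDesc.bot SimplexCategory, FibDesc.bot SimplexCategory) q) ∈ U := hq
      erw [snd_eq_fst] at h2
      show (rowρ u v).app (FibDesc.bot SimplexCategory) ((bi u v).map (𝟙 _) q) ∈ U
      rw [(bi u v).map_id]
      exact h2))
    (fun f => total_hom_ext ((Category.comp_id _).trans (Category.id_comp _).symm))

/-! ### the columns -/

/-- the square of a base change of Cech nerves -/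
theorem isPullback_cech {T : TopCat.{u}} (j : T ⟶ S) (x : WI) :
    IsPullback ((restrMap u j).app x) (ua (pullback.snd u j) x) (ua u x) j := by
  obtain ⟨x⟩ := x
  match x with
  | .star =>
    haveI := isIso_ua_bot (pullback.snd u j)
    haveI := isIso_ua_bot u
    refine IsPullback.of_vert_isIso ⟨?_⟩
    show j ≫ ua u (FibDesc.bot SimplexCategory) = ua (pullback.snd u j) (FibDesc.bot SimplexCategory) ≫ j
    rw [ua_bot, ua_bot]
    exact (Category.comp_id _).trans (Category.id_comp _).symm
  | .of n =>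
    rw [ua_of, ua_of]
    exact isPullback_restrN u j n

variable (m : SimplexCategoryᵒᵖ)

/-- comparison of a column with a Cech nerve -/
noncomputable def colIso (x : WI) :
    (FibDesc.cechAug (pullback.snd u (ua v ((FibDesc.toAug SimplexCategory).obj m)))).obj x ≅
      pullback (ua u x) (ua v ((FibDesc.toAug SimplexCategory).obj m)) :=
  (isPullback_cech u (ua v ((FibDesc.toAug SimplexCategory).obj m)) x).isoPullback

/-- the column -/
noncomputable def colρ : colF WI m ⋙ Z0 (bi u v) ⟶
    FibDesc.cechAug (pullback.snd u (ua v ((FibDesc.toAug SimplexCategory).obj m))) where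
  app x := (colIso u v m x).inv
  naturality x y f := by
    let j := ua v ((FibDesc.toAug SimplexCategory).obj m)
    let c := FibDesc.cechAug (pullback.snd u j)
    let g : (bi u v).obj (x, (FibDesc.toAug SimplexCategory).obj m) ⟶
        (bi u v).obj (y, (FibDesc.toAug SimplexCategory).obj m) :=
      (bi u v).map ((f, (FibDesc.toAug SimplexCategory).map (𝟙 m)) :
        (x, (FibDesc.toAug SimplexCategory).obj m) ⟶ (y, (FibDesc.toAug SimplexCategory).obj m))
    have h : c.map f ≫ (colIso u v m y).hom = (colIso u v m x).hom ≫ g := by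
      apply pullback.hom_ext
      · show (c.map f ≫ (colIso u v m y).hom) ≫ pullback.fst (ua u y) j =
          ((colIso u v m x).hom ≫ g) ≫ pullback.fst (ua u y) j
        have e : g ≫ pullback.fst (ua u y) j = pullback.fst (ua u x) j ≫ (FibDesc.cechAug u).map f :=
          bi_map_fst u v _
        rw [Category.assoc, Category.assoc, e, colIso, colIso, IsPullback.isoPullback_hom_fst,
          IsPullback.isoPullback_hom_fst_assoc]
        exact (restrMap u j).naturality f
      · show (c.map f ≫ (colIso u v m y).hom) ≫ pullback.snd (ua u y) j =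
          ((colIso u v m x).hom ≫ g) ≫ pullback.snd (ua u y) j
        have e : g ≫ pullback.snd (ua u y) j = pullback.snd (ua u x) j :=
          (bi_map_snd u v _).trans (by
            show _ ≫ (FibDesc.cechAug v).map ((FibDesc.toAug SimplexCategory).map (𝟙 m)) = _
            rw [(FibDesc.toAug SimplexCategory).map_id, (FibDesc.cechAug v).map_id]
            exact Category.comp_id _)
        rw [Category.assoc, Category.assoc, e, colIso, colIso, IsPullback.isoPullback_hom_snd,
          IsPullback.isoPullback_hom_snd]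
        exact ua_naturality (pullback.snd u j) f
    show g ≫ (colIso u v m y).inv = (colIso u v m x).inv ≫ c.map f
    rw [Iso.comp_inv_eq, Category.assoc, h, Iso.inv_hom_id_assoc]

instance colρ_isIso (x : WI) : IsIso ((colρ u v m).app x) := inferInstanceAs (IsIso (colIso u v m x).inv)

/-! ### the comparison -/

theorem FF_columns (h : ∀ m : SimplexCategoryᵒᵖ,
    FibDesc.IsCohDescentMap (pullback.snd u (ua v ((FibDesc.toAug SimplexCategory).obj m)))) :
    FF (pb (eF (Z0 (bi u v))) (tJ (ZE (Z0 (bi u v)))) (tJ (Z0 (bi u v))) ⋙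
      res (iF (Z0 (bi u v))) (tJ (ZW (Z0 (bi u v)))) (tJ (Z0 (bi u v)))) :=
  FF_levels (Z0 (bi u v))
    (fun m => FibDesc.cechAug (pullback.snd u (ua v ((FibDesc.toAug SimplexCategory).obj m))))
    (fun m => colρ u v m) h

theorem epsY_flat (V : WI ⥤ TopCat.{u}) : RepresentablyFlat (epsY V) := FibDescSplit.eps_flat V

attribute [local instance] epsY_flat

/-- the augmentation functor of a Cech nerve on sheaves -/
noncomputable abbrev LC : Sh (Opens.grothendieckTopology S) ⥤ Sh (tJ (FibDesc.toAug SimplexCategory ⋙ FibDesc.cechAug u)) :=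
  pb (epsY (FibDesc.cechAug u)) (tpTop (FibDesc.cechAug u) (FibDesc.bot SimplexCategory)) (tJ (FibDesc.cechAug u)) ⋙
    res (inclY (FibDesc.cechAug u)) (tJ (FibDesc.toAug SimplexCategory ⋙ FibDesc.cechAug u)) (tJ (FibDesc.cechAug u))

/-- the family of levels -/
noncomputable abbrev LL : Sh (tJ (ZE (Z0 (bi u v)))) ⥤ Sh (tJ (ZW (Z0 (bi u v)))) :=
  pb (eF (Z0 (bi u v))) (tJ (ZE (Z0 (bi u v)))) (tJ (Z0 (bi u v))) ⋙
    res (iF (Z0 (bi u v))) (tJ (ZW (Z0 (bi u v)))) (tJ (Z0 (bi u v)))

/-- the identification of the row -/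
noncomputable abbrev LR : Sh (tJ (FibDesc.toAug SimplexCategory ⋙ FibDesc.cechAug v)) ⥤ Sh (tJ (ZE (Z0 (bi u v)))) :=
  res (ωY (bi u v) (FibDesc.cechAug v) (rowρ u v)) (tJ (ZE (Z0 (bi u v))))
    (tJ (FibDesc.toAug SimplexCategory ⋙ FibDesc.cechAug v))

theorem nonempty_swapIso :
    Nonempty ((LC v ⋙ LR u v) ⋙ LL u v ≅
      ((LC u ⋙ LR v u) ⋙ LL v u) ⋙ res (σW v u) (tJ (ZW (Z0 (bi u v)))) (tJ (ZW (Z0 (bi v u))))) := by
  let J := Opens.grothendieckTopology S
  let K := tJ (bi u v)
  haveI h1 := epsσ_continuous (bi u v) (FibDesc.cechAug v) (rowρ u v) (𝟭 _) K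
  haveI h2 := iσ_continuous (bi u v) (𝟭 _) K
  haveI h3 := epsσ_continuous (bi v u) (FibDesc.cechAug u) (rowρ v u) (σS u v) K
  haveI h4 := iσ_continuous (bi v u) (σS u v) K
  obtain ⟨t₁⟩ := nonempty_totalIso (bi u v) (FibDesc.cechAug v) (rowρ u v) (𝟭 _) K
  obtain ⟨t₂⟩ := nonempty_totalIso (bi v u) (FibDesc.cechAug u) (rowρ v u) (σS u v) K
  let F₁ : Opens S ⥤ TS (bi u v) := epsY (FibDesc.cechAug v) ⋙ aY (bi u v) (FibDesc.cechAug v) (rowρ u v) ⋙ 𝟭 _
  let F₂ : Opens S ⥤ TS (bi u v) := epsY (FibDesc.cechAug u) ⋙ aY (bi v u) (FibDesc.cechAug u) (rowρ v u) ⋙ σS u v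
  haveI : F₁.IsContinuous J K := h1
  haveI : F₂.IsContinuous J K := h3
  let eF12 : pb F₁ J K ≅ pb F₂ J K := (pbAdj F₁ J K).leftAdjointUniq
    ((pbAdj F₂ J K).ofNatIsoRight (Functor.sheafPushforwardContinuousIso (eS u v) AddCommGrpCat.{u} J K).symm)
  let er : res (iF (Z0 (bi v u)) ⋙ jF (bi v u) ⋙ σS u v) (tJ (ZW (Z0 (bi v u)))) K ⋙
      res (σW v u) (tJ (ZW (Z0 (bi u v)))) (tJ (ZW (Z0 (bi v u)))) ≅
      res (iF (Z0 (bi u v)) ⋙ jF (bi u v) ⋙ 𝟭 _) (tJ (ZW (Z0 (bi u v)))) K :=
    Functor.sheafPushforwardContinuousComp' (eW u v) AddCommGrpCat.{u} _ _ _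
  exact ⟨t₁ ≪≫ Functor.isoWhiskerRight eF12 _ ≪≫ Functor.isoWhiskerLeft _ er.symm ≪≫
    (Functor.associator _ _ _).symm ≪≫ Functor.isoWhiskerRight t₂.symm _⟩

theorem FF_LC (h : FibDesc.IsCohDescentMap u) : FF (LC u) :=
  FF_of_good (mainAdj (FibDesc.cechAug u)) ((isCohDescentTop_iff_good _).1 h)

theorem isCohDescentMap_of_FF (h : FF (LC u)) : FibDesc.IsCohDescentMap u :=
  (isCohDescentTop_iff_good _).2 (good_of_FF (mainAdj (FibDesc.cechAug u)) h)

theorem isCohDescentMap_of_id (h : FibDesc.IsCohDescentMap (pullback.snd u (𝟙 S))) : FibDesc.IsCohDescentMap u :=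
  isCohDescentMap_of_cover u (fun _ : PUnit.{1} => S) (fun _ => 𝟙 S) (fun _ => Topology.IsOpenEmbedding.id)
    (fun s => ⟨⟨⟩, s, rfl⟩) fun _ => h

/-- descent is local for maps universally of descent -/
theorem isCohDescentMap_of_levels (hv : FibDesc.IsUnivCohDescentMap v)
    (h : ∀ n : SimplexCategory, FibDesc.IsCohDescentMap (pullback.snd u (ya v n))) : FibDesc.IsCohDescentMap u := by
  have hcol : FF (LL u v) := FF_columns u v fun m => by
    obtain ⟨n⟩ := m
    have e : ua v ((FibDesc.toAug SimplexCategory).obj (op n)) = ya v n := ua_of v n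
    rw [e]
    exact h n
  have hcol' : FF (LL v u) := FF_columns v u fun m => hv _ _
  have hωv : FF (LR u v) := FF_res_ωY _ _ _
  have hωu : FF (LR v u) := FF_res_ωY _ _ _
  have hLv : FF (LC v) := FF_LC v (isCohDescentMap_of_id v (hv S (𝟙 S)))
  obtain ⟨e⟩ := nonempty_swapIso u v
  have h2 := FF_of_iso e (FF_comp _ _ (FF_comp _ _ hLv hωv) hcol)
  have h3 : FF ((LC u ⋙ LR v u) ⋙ LL v u) := FF_of_comp _ _ (FF_res_σW u v) h2
  exact isCohDescentMap_of_FF u (FF_of_comp _ _ hωu (FF_of_comp _ _ hcol' h3))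

end Groth.Agent.FibDescLoc
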