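import Groth.Agent.FibDescLoc.Crit
import Groth.Agent.FibDescSplit.Core
import Mathlib

/-!
# Composing functors fully faithful on bounded below derived categories
-/

set_option autoImplicit false
set_option linter.style.haveILetI false
set_option linter.unusedSectionVars false
set_option backward.isDefEq.respectTransparency false
set_option backward.isDefEq.respectTransparency.types false

universe v₁ v₂ v₃ u₁ u₂ u₃

open CategoryTheory Limits

namespace Groth.Agent.FibDescLoc

attribute [local instance] HasDerivedCategory.standard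

variable {A : Type u₁} [Category.{v₁} A] [Abelian A] {B : Type u₂} [Category.{v₂} B] [Abelian B]
  {C : Type u₃} [Category.{v₃} C] [Abelian C]

theorem plus_mapDerivedCategory (L : A ⥤ B) [L.Additive] [PreservesFiniteLimits L] [PreservesFiniteColimits L]
    (K : DerivedCategory.Plus A) :
    ∃ K' : DerivedCategory.Plus B, Nonempty (K'.obj ≅ L.mapDerivedCategory.obj K.obj) := by
  obtain ⟨a, ha⟩ := K.property
  haveI := ha
  obtain ⟨X, _, ⟨e⟩⟩ := DerivedCategory.exists_iso_Q_obj_of_isGE K.obj a
  exact ⟨⟨DerivedCategory.Q.obj ((L.mapHomologicalComplex (ComplexShape.up ℤ)).obj X), a, inferInstance⟩,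
    ⟨(L.mapDerivedCategoryFactors.app X).symm ≪≫ L.mapDerivedCategory.mapIso e.symm⟩⟩

theorem bijective_map_of_iso {D E : Type*} [Category* D] [Category* E] {F : D ⥤ E} {X X' Y Y' : D}
    (a : X ≅ X') (b : Y ≅ Y') (h : Function.Bijective fun f : X ⟶ Y => F.map f) :
    Function.Bijective fun f : X' ⟶ Y' => F.map f := by
  have e : (fun f : X' ⟶ Y' => F.map f) =
      ((F.mapIso a).homCongr (F.mapIso b)) ∘ (fun f : X ⟶ Y => F.map f) ∘ (a.homCongr b).symm := by
    funext f
    simp [Iso.homCongr, ← Functor.map_comp]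
  rw [e]
  exact (Equiv.bijective _).comp (h.comp (Equiv.bijective _))

theorem bijective_map_of_natIso {D E : Type*} [Category* D] [Category* E] {F G : D ⥤ E} (e : F ≅ G) (X Y : D) :
    Function.Bijective (fun f : X ⟶ Y => F.map f) ↔ Function.Bijective fun f : X ⟶ Y => G.map f := by
  have h : (fun f : X ⟶ Y => G.map f) = ((e.app X).homCongr (e.app Y)) ∘ fun f : X ⟶ Y => F.map f := by
    funext f
    simp [Iso.homCongr]
  rw [h]
  exact ((Equiv.bijective _).of_comp_iff' _).symm

theorem FF_of_iso {L M : A ⥤ B} [L.Additive] [M.Additive] [PreservesFiniteLimits L] [PreservesFiniteColimits L]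
    [PreservesFiniteLimits M] [PreservesFiniteColimits M] (e : L ≅ M) (h : FF L) : FF M := by
  intro K N
  haveI : ∀ X, IsIso ((FibDescSplit.mapD e.hom).app X) := fun X => by
    obtain ⟨Y, ⟨i⟩⟩ : ∃ Y, Nonempty (DerivedCategory.Q.obj Y ≅ X) :=
      ⟨_, ⟨DerivedCategory.Q.objObjPreimageIso X⟩⟩
    rw [← NatTrans.isIso_app_iff_of_iso (FibDescSplit.mapD e.hom) i]
    exact FibDescSplit.isIso_mapD_app e.hom Y fun n => inferInstance
  haveI : IsIso (FibDescSplit.mapD e.hom) := NatIso.isIso_of_isIso_app _
  exact (bijective_map_of_natIso (asIso (FibDescSplit.mapD e.hom)) K.obj N.obj).1 (h K N)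

variable (L : A ⥤ B) (M : B ⥤ C) [L.Additive] [M.Additive] [PreservesFiniteLimits L] [PreservesFiniteColimits L]
  [PreservesFiniteLimits M] [PreservesFiniteColimits M]
  [PreservesFiniteLimits (L ⋙ M)] [PreservesFiniteColimits (L ⋙ M)]

theorem bijective_M (hM : FF M) (K N : DerivedCategory.Plus A) :
    Function.Bijective fun g : L.mapDerivedCategory.obj K.obj ⟶ L.mapDerivedCategory.obj N.obj =>
      M.mapDerivedCategory.map g := by
  obtain ⟨K', ⟨a⟩⟩ := plus_mapDerivedCategory L K
  obtain ⟨N', ⟨b⟩⟩ := plus_mapDerivedCategory L N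
  exact bijective_map_of_iso a b (hM K' N')

theorem FF_comp (hL : FF L) (hM : FF M) : FF (L ⋙ M) := fun K N =>
  (bijective_map_of_natIso (FibDescSplit.compIsoD L M) K.obj N.obj).2
    ((bijective_M L M hM K N).comp (hL K N))

theorem FF_of_comp (hM : FF M) (h : FF (L ⋙ M)) : FF L := fun K N => by
  have h1 := (bijective_map_of_natIso (FibDescSplit.compIsoD L M) K.obj N.obj).1 (h K N)
  exact (Function.Bijective.of_comp_iff' (bijective_M L M hM K N) _).1 h1

/-- an exact functor with exact quasi-inverse on the right is fully faithful on bounded below derived categories -/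
theorem FF_of_exact_adj [EnoughInjectives A] [EnoughInjectives B] {R : B ⥤ A} [R.Additive] [PreservesFiniteLimits R]
    [PreservesFiniteColimits R] (adj : L ⊣ R) (h : ∀ X, IsIso (adj.unit.app X)) : FF L := by
  refine FF_of_good adj fun X => ⟨h X, fun q hq => ?_⟩
  obtain ⟨n, rfl⟩ : ∃ n, q = n + 1 := ⟨q - 1, by omega⟩
  let I := injectiveResolution (L.obj X)
  refine IsZero.of_iso ?_ (I.isoRightDerivedObj R (n + 1) ≪≫ (I.cocomplex.sc (n + 1)).mapHomologyIso R)
  exact R.map_isZero ((I.cocomplex_exactAt_succ n).isZero_homology)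

end Groth.Agent.FibDescLoc
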