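import Groth.Agent.FibDescLoc.Levels
import Groth.Agent.FibDescLoc.Compose
import Mathlib

/-!
# Bisimplicial spaces: comparison of the two iterated inverse images
-/

set_option backward.isDefEq.respectTransparency false
set_option backward.isDefEq.respectTransparency.types false
set_option linter.style.haveILetI false
set_option linter.unusedSectionVars false
set_option autoImplicit false
set_option synthInstance.maxHeartbeats 400000
set_option maxHeartbeats 1600000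

universe u

open CategoryTheory CategoryTheory.Limits Opposite Pseudofunctor Pseudofunctor.CoGrothendieck TopologicalSpace

namespace Groth.Agent.FibDescLoc

open FibDescSplit (Sh res pb rk pbAdj rkAdj total_hom_ext)

attribute [local instance] HasDerivedCategory.standard

theorem gam_naturality {SB SA SB' SA' : Type (u + 1)} [Category.{u} SB] [Category.{u} SA] [Category.{u} SB']
    [Category.{u} SA'] {pE : SB ⥤ SA} {rE : SA ⥤ SB} (aE : pE ⊣ rE) {pE' : SB' ⥤ SA'} {rE' : SA' ⥤ SB'}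
    (aE' : pE' ⊣ rE') (b : SB ⥤ SB') (a : SA ⥤ SA') (τ : rE ⋙ b ≅ a ⋙ rE') {X X' : SB} (f : X ⟶ X') :
    pE'.map (b.map f) ≫ gam aE aE' b a τ X' = gam aE aE' b a τ X ≫ a.map (pE.map f) := by
  apply (aE'.homEquiv _ _).injective
  rw [Adjunction.homEquiv_naturality_left, Adjunction.homEquiv_naturality_right,
    Adjunction.homEquiv_unit, Adjunction.homEquiv_unit, gam_spec, gam_spec]
  have h1 := aE.unit.naturality f
  simp only [Functor.id_map, Functor.comp_map] at h1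
  have h2 := τ.hom.naturality (pE.map f)
  simp only [Functor.comp_map] at h2
  simp only [Functor.comp_obj, Functor.id_obj, Category.assoc] at h1 h2 ⊢
  rw [← h2, ← Functor.map_comp_assoc, h1, Functor.map_comp_assoc]

/-- restriction along a functor with a two-sided inverse is fully faithful on bounded below derived categories -/
theorem FF_res_inverse {A B : Type u} [SmallCategory A] [SmallCategory B] (JA : GrothendieckTopology A)
    (JB : GrothendieckTopology B) (ω : A ⥤ B) (ω' : B ⥤ A) [ω.IsContinuous JA JB] [ω.IsCocontinuous JA JB]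
    [ω'.IsContinuous JB JA] [ω'.IsCocontinuous JB JA] (e₁ : 𝟭 A ≅ ω ⋙ ω') (e₂ : ω' ⋙ ω ≅ 𝟭 B) :
    FF (res ω JA JB) := by
  let e := CategoryTheory.Equivalence.mk ω ω' e₁ e₂
  haveI : e.functor.IsContinuous JA JB := ‹ω.IsContinuous JA JB›
  haveI : e.inverse.IsContinuous JB JA := ‹ω'.IsContinuous JB JA›
  let adj : res ω JA JB ⊣ res ω' JB JA :=
    Adjunction.sheafPushforwardContinuous (E := AddCommGrpCat.{u}) e.toAdjunction JA JB
  refine FF_of_exact_adj (res ω JA JB) adj fun X => ?_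
  haveI : ∀ c, IsIso (((sheafToPresheaf JB AddCommGrpCat.{u}).map (adj.unit.app X)).app c) := fun c => by
    show IsIso (X.obj.map (e.counit.app c.unop).op)
    infer_instance
  haveI := NatIso.isIso_of_isIso_app ((sheafToPresheaf JB AddCommGrpCat.{u}).map (adj.unit.app X))
  exact isIso_of_reflects_iso _ (sheafToPresheaf JB AddCommGrpCat.{u})

attribute [local instance] Mor_isCocontinuous

/-- isomorphisms of objects of a total category over an isomorphism of the bases -/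
noncomputable def tIso {𝒮 : Type} [SmallCategory 𝒮] {Z : 𝒮 ⥤ TopCat.{u}} {x y : TS Z} (g : x.base ⟶ y.base)
    (g' : y.base ⟶ x.base) (e : g ≫ g' = 𝟙 _) (e' : g' ≫ g = 𝟙 _)
    (h : (show Opens (Z.obj x.base) from x.fiber) ≤
      (Opens.map (Z.map g)).obj (show Opens (Z.obj y.base) from y.fiber))
    (h' : (show Opens (Z.obj y.base) from y.fiber) ≤
      (Opens.map (Z.map g')).obj (show Opens (Z.obj x.base) from x.fiber)) : x ≅ y where
  hom := tmk g h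
  inv := tmk g' h'
  hom_inv_id := total_hom_ext e
  inv_hom_id := total_hom_ext e'

variable {D : Type} [SmallCategory D]

/-- the index functor of the half-augmented part -/
abbrev κ0 (D : Type) [SmallCategory D] : (WithInitial D)ᵒᵖ × Dᵒᵖ ⥤ (WithInitial D)ᵒᵖ × (WithInitial D)ᵒᵖ :=
  (𝟭 (WithInitial D)ᵒᵖ).prod (FibDesc.toAug D)

variable (Z : (WithInitial D)ᵒᵖ × (WithInitial D)ᵒᵖ ⥤ TopCat.{u})

/-- the half-augmented family -/
noncomputable abbrev Z0 : (WithInitial D)ᵒᵖ × Dᵒᵖ ⥤ TopCat.{u} := κ0 D ⋙ Z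

/-- inclusion of the half-augmented family -/
noncomputable abbrev jF : TS (Z0 Z) ⥤ TS Z := Mor (κ0 D) (idT _ Z)

variable (Y : (WithInitial D)ᵒᵖ ⥤ TopCat.{u}) (ρr : rowF (WithInitial D)ᵒᵖ (FibDesc.bot D) ⋙ Z ⟶ Y)
  [∀ y, IsIso (ρr.app y)]

/-- inclusion of the row -/
noncomputable abbrev aY : TS Y ⥤ TS Z := Mor (rowF (WithInitial D)ᵒᵖ (FibDesc.bot D)) ρr

/-- the row spaces -/
noncomputable def ρb : 𝟭 Dᵒᵖ ⋙ (FibDesc.toAug D ⋙ Y) ⟶ ZE (Z0 Z) where
  app m := inv (ρr.app ((FibDesc.toAug D).obj m))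
  naturality m n f := by
    show Y.map ((FibDesc.toAug D).map f) ≫ inv (ρr.app ((FibDesc.toAug D).obj n)) =
      inv (ρr.app ((FibDesc.toAug D).obj m)) ≫
        (rowF (WithInitial D)ᵒᵖ (FibDesc.bot D) ⋙ Z).map ((FibDesc.toAug D).map f)
    rw [IsIso.eq_inv_comp, ← Category.assoc, IsIso.comp_inv_eq]
    exact (ρr.naturality _).symm

/-- the inverse row spaces -/
noncomputable def ρb' : 𝟭 Dᵒᵖ ⋙ ZE (Z0 Z) ⟶ FibDesc.toAug D ⋙ Y where
  app m := ρr.app ((FibDesc.toAug D).obj m)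
  naturality m n f := ρr.naturality ((FibDesc.toAug D).map f)

instance ρb_isIso (m : Dᵒᵖ) : IsIso ((ρb Z Y ρr).app m) := inferInstanceAs (IsIso (inv _))

instance ρb'_isIso (m : Dᵒᵖ) : IsIso ((ρb' Z Y ρr).app m) := inferInstanceAs (IsIso (ρr.app _))

/-- the identification of the row part with the part of the row -/
noncomputable abbrev ωY : TS (ZE (Z0 Z)) ⥤ TS (FibDesc.toAug D ⋙ Y) := Mor (𝟭 Dᵒᵖ) (ρb Z Y ρr)

/-- its inverse -/
noncomputable abbrev ωY' : TS (FibDesc.toAug D ⋙ Y) ⥤ TS (ZE (Z0 Z)) := Mor (𝟭 Dᵒᵖ) (ρb' Z Y ρr)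

theorem FF_res_ωY : FF (res (ωY Z Y ρr) (tJ (ZE (Z0 Z))) (tJ (FibDesc.toAug D ⋙ Y))) := by
  refine FF_res_inverse _ _ (ωY Z Y ρr) (ωY' Z Y ρr)
    (NatIso.ofComponents (fun c => tIso (𝟙 c.base) (𝟙 c.base) (Category.comp_id _) (Category.comp_id _) ?_ ?_)
      (fun f => total_hom_ext ((Category.comp_id _).trans (Category.id_comp _).symm)))
    (NatIso.ofComponents (fun c => tIso (𝟙 c.base) (𝟙 c.base) (Category.comp_id _) (Category.comp_id _) ?_ ?_)
      (fun f => total_hom_ext ((Category.comp_id _).trans (Category.id_comp _).symm)))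
  · intro q hq
    show inv (ρr.app _) (ρr.app _ ((ZE (Z0 Z)).map (𝟙 c.base) q)) ∈ (show Opens ((ZE (Z0 Z)).obj c.base) from c.fiber)
    rw [(ZE (Z0 Z)).map_id]
    erw [ConcreteCategory.congr_hom (IsIso.hom_inv_id (ρr.app ((FibDesc.toAug D).obj c.base))) q]
    exact hq
  · intro q hq
    have h2 : inv (ρr.app _) (ρr.app _ q) ∈ (show Opens ((ZE (Z0 Z)).obj c.base) from c.fiber) := hq
    erw [ConcreteCategory.congr_hom (IsIso.hom_inv_id (ρr.app ((FibDesc.toAug D).obj c.base))) q] at h2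
    show (ZE (Z0 Z)).map (𝟙 c.base) q ∈ (show Opens ((ZE (Z0 Z)).obj c.base) from c.fiber)
    rw [(ZE (Z0 Z)).map_id]
    exact h2
  · intro q hq
    have h2 : ρr.app _ (inv (ρr.app _) q) ∈ (show Opens (Y.obj ((FibDesc.toAug D).obj c.base)) from c.fiber) := hq
    erw [ConcreteCategory.congr_hom (IsIso.inv_hom_id (ρr.app ((FibDesc.toAug D).obj c.base))) q] at h2
    show (FibDesc.toAug D ⋙ Y).map (𝟙 c.base) q ∈ (show Opens (Y.obj ((FibDesc.toAug D).obj c.base)) from c.fiber)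
    rw [(FibDesc.toAug D ⋙ Y).map_id]
    exact h2
  · intro q hq
    show ρr.app _ (inv (ρr.app _) ((FibDesc.toAug D ⋙ Y).map (𝟙 c.base) q)) ∈
      (show Opens (Y.obj ((FibDesc.toAug D).obj c.base)) from c.fiber)
    rw [(FibDesc.toAug D ⋙ Y).map_id]
    erw [ConcreteCategory.congr_hom (IsIso.inv_hom_id (ρr.app ((FibDesc.toAug D).obj c.base))) q]
    exact hq

/-- inclusion of the part of a row, between total categories of diagrams -/
noncomputable def inclY : TS (FibDesc.toAug D ⋙ Y) ⥤ TS Y := FibDesc.incl (FibDesc.topAug Y)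

/-- the base of a row, between total categories of diagrams -/
noncomputable def epsY : (tp Y).obj ⟨op (FibDesc.bot D)⟩ ⥤ TS Y := FibDesc.eps (FibDesc.topAug Y)

instance epsY_continuous : (epsY Y).IsContinuous (tpTop Y (FibDesc.bot D)) (tJ Y) :=
  eps_continuous Y

instance inclY_continuous : (inclY Y).IsContinuous (tJ (FibDesc.toAug D ⋙ Y)) (tJ Y) :=
  incl_continuous Y

instance inclY_cocontinuous : (inclY Y).IsCocontinuous (tJ (FibDesc.toAug D ⋙ Y)) (tJ Y) :=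
  incl_cocontinuous Y

/-- the row part to the augmented row -/
noncomputable abbrev bY : TS (ZE (Z0 Z)) ⥤ TS Y := ωY Z Y ρr ⋙ inclY Y

/-- the square of the row -/
noncomputable def e₀ : bY Z Y ρr ⋙ aY Z Y ρr ≅ eF (Z0 Z) ⋙ jF Z :=
  NatIso.ofComponents (fun c =>
    tIso (𝟙 _) (𝟙 _) (Category.comp_id _) (Category.comp_id _) (fun q hq => by
        have h2 : inv (ρr.app _) (ρr.app _ q) ∈ (show Opens ((ZE (Z0 Z)).obj c.base) from c.fiber) := hq
        erw [ConcreteCategory.congr_hom (IsIso.hom_inv_id (ρr.app ((FibDesc.toAug D).obj c.base))) q] at h2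
        show Z.map (𝟙 _) q ∈ (show Opens ((ZE (Z0 Z)).obj c.base) from c.fiber)
        rw [Z.map_id]
        exact h2)
      (fun q hq => by
        show inv (ρr.app _) (ρr.app _ (Z.map (𝟙 _) q)) ∈ (show Opens ((ZE (Z0 Z)).obj c.base) from c.fiber)
        rw [Z.map_id]
        erw [ConcreteCategory.congr_hom (IsIso.hom_inv_id (ρr.app ((FibDesc.toAug D).obj c.base))) q]
        exact hq)
      )
    (fun f => total_hom_ext ((Category.comp_id _).trans (Category.id_comp _).symm))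

variable {T : Type u} [SmallCategory T] (σ : TS Z ⥤ T)

/-- the square after a comparison functor -/
noncomputable def eσ₀ : bY Z Y ρr ⋙ (aY Z Y ρr ⋙ σ) ≅ eF (Z0 Z) ⋙ (jF Z ⋙ σ) :=
  Functor.isoWhiskerRight (e₀ Z Y ρr) σ

theorem gam_hasFac [σ.Full] [σ.Faithful] (U : TS Y) :
    HasFac (jF Z ⋙ σ) (bY Z Y ρr) (aY Z Y ρr ⋙ σ) (eF (Z0 Z)) (eσ₀ Z Y ρr σ).symm U := fun z f => by
  let f' := σ.preimage f
  have hsub := FibDescSplit.subsingleton_bot (D := D)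
  have hfwd : ∀ (c : TS (ZE (Z0 Z))) (h : z ⟶ (eF (Z0 Z)).obj c) (g : (bY Z Y ρr).obj c ⟶ U),
      ((FibDesc.toAug D).map h.base.2 ≫ g.base = f'.base.2) →
      (jF Z ⋙ σ).map h ≫ (eσ₀ Z Y ρr σ).symm.hom.app c ≫ (aY Z Y ρr ⋙ σ).map g = f := fun c h g hb => by
    have e1 : (jF Z).map h ≫ (e₀ Z Y ρr).inv.app c ≫ (aY Z Y ρr).map g = f' :=
      total_hom_ext (Prod.ext ((hsub _).elim _ _) (by
        show (FibDesc.toAug D).map h.base.2 ≫ 𝟙 _ ≫ g.base = f'.base.2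
        rw [Category.id_comp]
        exact hb))
    have e2 := congrArg σ.map e1
    simp only [Functor.map_comp, f', σ.map_preimage] at e2
    exact e2
  have hbwd : ∀ (c : TS (ZE (Z0 Z))) (h : z ⟶ (eF (Z0 Z)).obj c) (g : (bY Z Y ρr).obj c ⟶ U),
      (jF Z ⋙ σ).map h ≫ (eσ₀ Z Y ρr σ).symm.hom.app c ≫ (aY Z Y ρr ⋙ σ).map g = f →
      (FibDesc.toAug D).map h.base.2 ≫ g.base = f'.base.2 := fun c h g he => by
    have e1 : (jF Z).map h ≫ (e₀ Z Y ρr).inv.app c ≫ (aY Z Y ρr).map g = f' := σ.map_injective (by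
      simp only [Functor.map_comp, f', σ.map_preimage]
      exact he)
    have e3 : (FibDesc.toAug D).map h.base.2 ≫ 𝟙 _ ≫ g.base = f'.base.2 :=
      (congrArg (fun t => t.base.2) e1 :)
    rwa [Category.id_comp] at e3
  let m : Dᵒᵖ := z.base.2
  let φ : (FibDesc.toAug D).obj m ⟶ U.base := f'.base.2
  let h0b : z.base ⟶ (FibDesc.bot D, m) := (toBot z.base.1, 𝟙 m)
  let r : (ZE (Z0 Z)).obj m ⟶ Y.obj U.base := ρr.app ((FibDesc.toAug D).obj m) ≫ Y.map φ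
  let W0 : Opens ((ZE (Z0 Z)).obj m) := (Opens.map r).obj (show Opens (Y.obj U.base) from U.fiber)
  have hW0 : ∀ q, q ∈ (show Opens ((Z0 Z).obj z.base) from z.fiber) → (Z0 Z).map h0b q ∈ W0 := fun q hq => by
    show Y.map φ (ρr.app ((FibDesc.toAug D).obj m) ((Z0 Z).map h0b q)) ∈ (show Opens (Y.obj U.base) from U.fiber)
    have hn : Y.map φ (ρr.app ((FibDesc.toAug D).obj m) ((Z0 Z).map h0b q)) =
        ρr.app U.base ((rowF (WithInitial D)ᵒᵖ (FibDesc.bot D) ⋙ Z).map φ ((Z0 Z).map h0b q)) :=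
      (ConcreteCategory.congr_hom (ρr.naturality φ) _).symm
    rw [hn]
    have hf := le_hom f' hq
    have e2 : f'.base = (κ0 D).map h0b ≫ (rowF (WithInitial D)ᵒᵖ (FibDesc.bot D)).map φ :=
      Prod.ext ((hsub _).elim _ _) (by
        show f'.base.2 = (FibDesc.toAug D).map (𝟙 m) ≫ φ
        rw [(FibDesc.toAug D).map_id, Category.id_comp])
    rw [e2] at hf
    erw [Z.map_comp] at hf
    exact hf
  have hg0 : ∀ (W : Opens ((ZE (Z0 Z)).obj m)), W ≤ W0 →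
      (show Opens (Y.obj ((FibDesc.toAug D).obj m)) from ((bY Z Y ρr).obj (tobj (ZE (Z0 Z)) m W)).fiber) ≤
        (Opens.map (Y.map φ)).obj (show Opens (Y.obj U.base) from U.fiber) := fun W hW q hq => by
    have h2 : inv (ρr.app ((FibDesc.toAug D).obj m)) q ∈ W := hq
    have h3 : Y.map φ (ρr.app _ (inv (ρr.app ((FibDesc.toAug D).obj m)) q)) ∈
        (show Opens (Y.obj U.base) from U.fiber) := hW h2
    erw [ConcreteCategory.congr_hom (IsIso.inv_hom_id (ρr.app ((FibDesc.toAug D).obj m))) q] at h3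
    exact h3
  refine ⟨⟨tobj (ZE (Z0 Z)) m W0, tmk h0b hW0, tmk φ (hg0 W0 le_rfl),
    hfwd _ _ _ (by show (FibDesc.toAug D).map (𝟙 m) ≫ φ = φ; rw [(FibDesc.toAug D).map_id, Category.id_comp])⟩,
    fun F => ?_⟩
  obtain ⟨c, hF, gF, eq⟩ := F
  have hb := hbwd c hF gF eq
  let h2 : m ⟶ c.base := hF.base.2
  let W1 : Opens ((ZE (Z0 Z)).obj m) :=
    W0 ⊓ (Opens.map ((ZE (Z0 Z)).map h2)).obj (show Opens ((ZE (Z0 Z)).obj c.base) from c.fiber)
  have hW1 : ∀ q, q ∈ (show Opens ((Z0 Z).obj z.base) from z.fiber) → (Z0 Z).map h0b q ∈ W1 := fun q hq =>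
    ⟨hW0 q hq, by
      show (ZE (Z0 Z)).map h2 ((Z0 Z).map h0b q) ∈ (show Opens ((ZE (Z0 Z)).obj c.base) from c.fiber)
      have hh := le_hom hF hq
      have e2 : hF.base = h0b ≫ (rowF Dᵒᵖ (FibDesc.bot D)).map h2 :=
        Prod.ext ((hsub _).elim _ _) (Category.id_comp _).symm
      rw [e2] at hh
      erw [(Z0 Z).map_comp] at hh
      exact hh⟩
  refine ⟨⟨tobj (ZE (Z0 Z)) m W1, tmk h0b hW1, tmk φ (hg0 W1 inf_le_left),
      hfwd _ _ _ (by show (FibDesc.toAug D).map (𝟙 m) ≫ φ = φ; rw [(FibDesc.toAug D).map_id, Category.id_comp])⟩,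
    tmk (𝟙 m) (fun q hq => ?_), tmk h2 inf_le_right, total_hom_ext ?_, total_hom_ext ?_, total_hom_ext ?_,
    total_hom_ext ?_⟩
  · show (ZE (Z0 Z)).map (𝟙 m) q ∈ W0
    rw [(ZE (Z0 Z)).map_id]
    exact hq.1
  · exact Prod.ext ((hsub _).elim _ _) (Category.comp_id _)
  · show (FibDesc.toAug D).map (𝟙 m) ≫ φ = φ
    rw [(FibDesc.toAug D).map_id, Category.id_comp]
  · exact Prod.ext ((hsub _).elim _ _) (Category.id_comp _)
  · exact hb

variable (K : GrothendieckTopology T) [σ.IsContinuous (tJ Z) K]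

theorem aσ_continuous : (aY Z Y ρr ⋙ σ).IsContinuous (tJ Y) K :=
  Functor.isContinuous_comp _ _ _ (tJ Z) _

theorem jσ_continuous : (jF Z ⋙ σ).IsContinuous (tJ (Z0 Z)) K :=
  Functor.isContinuous_comp _ _ _ (tJ Z) _

theorem iσ_continuous : (iF (Z0 Z) ⋙ jF Z ⋙ σ).IsContinuous (tJ (ZW (Z0 Z))) K :=
  haveI := jσ_continuous Z σ K
  Functor.isContinuous_comp _ _ _ (tJ (Z0 Z)) _

theorem epsσ_continuous : (epsY Y ⋙ aY Z Y ρr ⋙ σ).IsContinuous
    (tpTop Y (FibDesc.bot D)) K :=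
  haveI := aσ_continuous Z Y ρr σ K
  Functor.isContinuous_comp (epsY Y) (aY Z Y ρr ⋙ σ)
    (tpTop Y (FibDesc.bot D)) (tJ Y) K

theorem bY_continuous : (bY Z Y ρr).IsContinuous (tJ (ZE (Z0 Z))) (tJ Y) :=
  Functor.isContinuous_comp (ωY Z Y ρr) (inclY Y) (tJ (ZE (Z0 Z)))
    (tJ (FibDesc.toAug D ⋙ Y)) (tJ Y)

theorem bY_cocontinuous : (bY Z Y ρr).IsCocontinuous (tJ (ZE (Z0 Z))) (tJ Y) :=
  CategoryTheory.isCocontinuous_comp (G := ωY Z Y ρr) (G' := inclY Y)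
    (J := tJ (ZE (Z0 Z))) (K := tJ (FibDesc.toAug D ⋙ Y)) (L := tJ Y)

theorem jσ_cocontinuous [σ.IsCocontinuous (tJ Z) K] : (jF Z ⋙ σ).IsCocontinuous (tJ (Z0 Z)) K :=
  CategoryTheory.isCocontinuous_comp (K := tJ Z) (G := jF Z) (G' := σ) _

/-- inverse images along composites -/
noncomputable def pbCompIso {A B C : Type u} [SmallCategory A] [SmallCategory B] [SmallCategory C]
    (JA : GrothendieckTopology A) (JB : GrothendieckTopology B) (JC : GrothendieckTopology C) (F : A ⥤ B) (G : B ⥤ C)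
    [F.IsContinuous JA JB] [G.IsContinuous JB JC] [(F ⋙ G).IsContinuous JA JC] :
    pb F JA JB ⋙ pb G JB JC ≅ pb (F ⋙ G) JA JC :=
  ((pbAdj F JA JB).comp (pbAdj G JB JC)).leftAdjointUniq
    ((pbAdj (F ⋙ G) JA JC).ofNatIsoRight
      (Functor.sheafPushforwardContinuousComp' (Iso.refl (F ⋙ G)) AddCommGrpCat.{u} JA JB JC).symm)

/-- the composite of the row and of the levels depends only on the total family -/
theorem nonempty_totalIso [σ.Full] [σ.Faithful] [σ.IsCocontinuous (tJ Z) K] :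
    haveI := epsσ_continuous Z Y ρr σ K
    haveI := iσ_continuous Z σ K
    Nonempty (((pb (epsY Y) (tpTop Y (FibDesc.bot D)) (tJ Y) ⋙
      res (inclY Y) (tJ (FibDesc.toAug D ⋙ Y)) (tJ Y)) ⋙
      res (ωY Z Y ρr) (tJ (ZE (Z0 Z))) (tJ (FibDesc.toAug D ⋙ Y))) ⋙
      (pb (eF (Z0 Z)) (tJ (ZE (Z0 Z))) (tJ (Z0 Z)) ⋙ res (iF (Z0 Z)) (tJ (ZW (Z0 Z))) (tJ (Z0 Z))) ≅
      pb (epsY Y ⋙ aY Z Y ρr ⋙ σ) (tpTop Y (FibDesc.bot D)) K ⋙
        res (iF (Z0 Z) ⋙ jF Z ⋙ σ) (tJ (ZW (Z0 Z))) K) := by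
  haveI := aσ_continuous Z Y ρr σ K
  haveI := jσ_continuous Z σ K
  haveI := jσ_cocontinuous Z σ K
  haveI := iσ_continuous Z σ K
  haveI := epsσ_continuous Z Y ρr σ K
  haveI := bY_continuous Z Y ρr
  haveI := bY_cocontinuous Z Y ρr
  let JY := tJ Y
  let τ := tauIso JY K (tJ (ZE (Z0 Z))) (tJ (Z0 Z)) (aY Z Y ρr ⋙ σ) (eF (Z0 Z)) (bY Z Y ρr) (jF Z ⋙ σ) (eσ₀ Z Y ρr σ)
  haveI hγ : ∀ G, IsIso (gam (pbAdj (aY Z Y ρr ⋙ σ) JY K) (pbAdj (eF (Z0 Z)) (tJ (ZE (Z0 Z))) (tJ (Z0 Z)))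
      (res (bY Z Y ρr) (tJ (ZE (Z0 Z))) JY) (res (jF Z ⋙ σ) (tJ (Z0 Z)) K) τ G) :=
    isIso_gam_of_hasFac JY K (tJ (ZE (Z0 Z))) (tJ (Z0 Z)) (aY Z Y ρr ⋙ σ) (eF (Z0 Z)) (bY Z Y ρr) (jF Z ⋙ σ)
      (eσ₀ Z Y ρr σ) (gam_hasFac Z Y ρr σ)
  let eγ : res (bY Z Y ρr) (tJ (ZE (Z0 Z))) JY ⋙ pb (eF (Z0 Z)) (tJ (ZE (Z0 Z))) (tJ (Z0 Z)) ≅
      pb (aY Z Y ρr ⋙ σ) JY K ⋙ res (jF Z ⋙ σ) (tJ (Z0 Z)) K :=
    NatIso.ofComponents (fun G => @asIso _ _ _ _ _ (hγ G)) (fun f => gam_naturality _ _ _ _ τ f)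
  let eB : res (inclY Y) (tJ (FibDesc.toAug D ⋙ Y)) JY ⋙
      res (ωY Z Y ρr) (tJ (ZE (Z0 Z))) (tJ (FibDesc.toAug D ⋙ Y)) ≅ res (bY Z Y ρr) (tJ (ZE (Z0 Z))) JY :=
    Functor.sheafPushforwardContinuousComp' (Iso.refl _) AddCommGrpCat.{u} _ _ _
  let eI : res (jF Z ⋙ σ) (tJ (Z0 Z)) K ⋙ res (iF (Z0 Z)) (tJ (ZW (Z0 Z))) (tJ (Z0 Z)) ≅
      res (iF (Z0 Z) ⋙ jF Z ⋙ σ) (tJ (ZW (Z0 Z))) K :=
    Functor.sheafPushforwardContinuousComp' (Iso.refl _) AddCommGrpCat.{u} _ _ _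
  let eP := pbCompIso (tpTop Y (FibDesc.bot D)) JY K (epsY Y) (aY Z Y ρr ⋙ σ)
  exact ⟨Functor.associator _ _ _ ≪≫ Functor.associator _ _ _ ≪≫
    Functor.isoWhiskerLeft _ ((Functor.associator _ _ _).symm ≪≫ Functor.isoWhiskerRight eB _ ≪≫
      (Functor.associator _ _ _).symm ≪≫ Functor.isoWhiskerRight eγ _ ≪≫ Functor.associator _ _ _ ≪≫
      Functor.isoWhiskerLeft _ eI) ≪≫ (Functor.associator _ _ _).symm ≪≫ Functor.isoWhiskerRight eP _⟩

end Groth.Agent.FibDescLoc
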