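import Groth.Agent.FibDescLoc.BiCech
import Mathlib

/-!
# Permanence of universal cohomological descent
-/

set_option backward.isDefEq.respectTransparency false
set_option backward.isDefEq.respectTransparency.types false
set_option linter.style.haveILetI false
set_option linter.unusedSectionVars false
set_option autoImplicit false
set_option synthInstance.maxHeartbeats 400000
set_option maxHeartbeats 1600000

universe u

open CategoryTheory CategoryTheory.Limits Opposite TopologicalSpace

namespace Groth.Agent.FibDescLoc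

open FibDescSplit (Sh res Yn ya yπ yπ_f)

/-- cohomological descent is invariant under isomorphisms -/
theorem isCohDescentTop_of_iso {Y' Y : (WithInitial SimplexCategory)ᵒᵖ ⥤ TopCat.{u}} (e : Y' ≅ Y)
    (h : FibDesc.IsCohDescentTop Y') : FibDesc.IsCohDescentTop Y := by
  have hτ : ∀ x, Topology.IsOpenEmbedding (e.hom.app x) := fun x => (TopCat.homeoOfIso (e.app x)).isOpenEmbedding
  have hcart : ∀ x (y : Y.obj x), Y.map (toBot x) y ∈ Set.range (e.hom.app (FibDesc.bot SimplexCategory)) →
      y ∈ Set.range (e.hom.app x) :=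
    fun x y _ => ⟨e.inv.app x y, ConcreteCategory.congr_hom (e.inv_hom_id_app x) y⟩
  rw [isCohDescentTop_iff_good]
  intro Z
  have hr := good_restrict e.hom hτ hcart ((isCohDescentTop_iff_good Y').1 h) Z
  have hcov : ∀ s : Y.obj (FibDesc.bot SimplexCategory),
      ∃ _ : PUnit.{1}, s ∈ Set.range (e.hom.app (FibDesc.bot SimplexCategory)) :=
    fun s => ⟨⟨⟩, e.inv.app _ s, ConcreteCategory.congr_hom (e.inv_hom_id_app _) s⟩
  exact ⟨isIso_of_cover (fun _ : PUnit.{1} => Y'.obj _) (fun _ => e.hom.app _) (fun _ => hτ _) hcov _ fun _ => hr.1,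
    fun q hq => isZero_of_cover (fun _ : PUnit.{1} => Y'.obj _) (fun _ => e.hom.app _) (fun _ => hτ _) hcov _
      fun _ => hr.2 q hq⟩

theorem isCohDescentMap_of_iso {X X' S : TopCat.{u}} {f : X ⟶ S} {f' : X' ⟶ S} (e : X ≅ X') (w : e.hom ≫ f' = f)
    (h : FibDesc.IsCohDescentMap f) : FibDesc.IsCohDescentMap f' :=
  isCohDescentTop_of_iso (AugmentedSimplexCategory.equivAugmentedSimplicialObject.inverse.mapIso
    ((SimplicialObject.augmentedCechNerve (C := TopCat.{u})).mapIso
      (Arrow.isoMk (f := Arrow.mk f) (g := Arrow.mk f') e (Iso.refl S) (w.trans (Category.comp_id f).symm)))) h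

theorem isUnivCohDescentMap_of_iso {X X' S : TopCat.{u}} {f : X ⟶ S} {f' : X' ⟶ S} (e : X ≅ X')
    (w : e.hom ≫ f' = f) (h : FibDesc.IsUnivCohDescentMap f) : FibDesc.IsUnivCohDescentMap f' := fun T k =>
  isCohDescentMap_of_iso (asIso (pullback.map f k f' k e.hom (𝟙 T) (𝟙 S) (by rw [Category.comp_id, w])
    (by rw [Category.comp_id, Category.id_comp]))) (by simp) (h T k)

variable {X S : TopCat.{u}} {f : X ⟶ S}

theorem snd_snd_of_snd {T W : TopCat.{u}} (k : T ⟶ S) (j : W ⟶ T) (a : W ⟶ S) (e : j ≫ k = a)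
    (h : FibDesc.IsCohDescentMap (pullback.snd f a)) :
    FibDesc.IsCohDescentMap (pullback.snd (pullback.snd f k) j) := by
  subst e
  exact isCohDescentMap_of_iso (pullbackLeftPullbackSndIso f k j).symm
    (by rw [Iso.symm_hom, pullbackLeftPullbackSndIso_inv_snd_snd]) h

theorem snd_of_snd_snd {T W : TopCat.{u}} (k : T ⟶ S) (j : W ⟶ T) (a : W ⟶ S) (e : j ≫ k = a)
    (h : FibDesc.IsCohDescentMap (pullback.snd (pullback.snd f k) j)) :
    FibDesc.IsCohDescentMap (pullback.snd f a) := by
  subst e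
  exact isCohDescentMap_of_iso (pullbackLeftPullbackSndIso f k j) (pullbackLeftPullbackSndIso_hom_snd _ _ _) h

theorem isUnivCohDescentMap_snd (h : FibDesc.IsUnivCohDescentMap f) {T : TopCat.{u}} (k : T ⟶ S) :
    FibDesc.IsUnivCohDescentMap (pullback.snd f k) := fun W j => snd_snd_of_snd k j _ rfl (h W (j ≫ k))

theorem isUnivCohDescentMap_of_snd {S' : TopCat.{u}} (g : S' ⟶ S) (hg : FibDesc.IsUnivCohDescentMap g)
    (h : FibDesc.IsUnivCohDescentMap (pullback.snd f g)) : FibDesc.IsUnivCohDescentMap f := fun T k => by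
  refine isCohDescentMap_of_levels (pullback.snd f k) (pullback.snd g k) (isUnivCohDescentMap_snd hg k) fun n => ?_
  let l : Yn (pullback.snd g k) n ⟶ S' := yπ (pullback.snd g k) n 0 ≫ pullback.fst g k
  have e : ya (pullback.snd g k) n ≫ k = l ≫ g := by
    rw [← yπ_f (pullback.snd g k) n 0, Category.assoc, Category.assoc, pullback.condition]
  exact snd_snd_of_snd k _ _ e (snd_of_snd_snd g l _ rfl (h _ l))

theorem isCohDescentMap_of_lift {W : TopCat.{u}} (a : W ⟶ S) (s : W ⟶ X) (w : s ≫ f = a) :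
    FibDesc.IsCohDescentMap (pullback.snd f a) :=
  FibDescSplit.isCohDescentMap_of_section (pullback.snd f a) (pullback.lift s (𝟙 W) (by rw [w, Category.id_comp]))
    (pullback.lift_snd _ _ _)

theorem isUnivCohDescentMap_of_comp {Y : TopCat.{u}} (f : X ⟶ Y) (g : Y ⟶ S)
    (h : FibDesc.IsUnivCohDescentMap (f ≫ g)) : FibDesc.IsUnivCohDescentMap g := fun T k => by
  refine isCohDescentMap_of_levels (pullback.snd g k) (pullback.snd (f ≫ g) k) (isUnivCohDescentMap_snd h k)
    fun n => ?_
  let v := pullback.snd (f ≫ g) k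
  have e : (yπ v n 0 ≫ pullback.fst (f ≫ g) k ≫ f) ≫ g = ya v n ≫ k := by
    rw [← yπ_f v n 0, Category.assoc, Category.assoc, Category.assoc, pullback.condition]
  exact isCohDescentMap_of_lift _ (pullback.lift _ _ e) (pullback.lift_snd _ _ _)

theorem isUnivCohDescentMap_comp {Y : TopCat.{u}} (f : X ⟶ Y) (g : Y ⟶ S) (hf : FibDesc.IsUnivCohDescentMap f)
    (hg : FibDesc.IsUnivCohDescentMap g) : FibDesc.IsUnivCohDescentMap (f ≫ g) := fun T k => by
  refine isCohDescentMap_of_levels (pullback.snd (f ≫ g) k) (pullback.snd g k) (isUnivCohDescentMap_snd hg k)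
    fun n => ?_
  let v := pullback.snd g k
  let l : Yn v n ⟶ Y := yπ v n 0 ≫ pullback.fst g k
  have e : ya v n ≫ k = l ≫ g := by
    rw [← yπ_f v n 0, Category.assoc, Category.assoc, pullback.condition]
  refine snd_snd_of_snd k _ _ e ?_
  refine isCohDescentMap_of_levels (pullback.snd (f ≫ g) (l ≫ g)) (pullback.snd f l) (isUnivCohDescentMap_snd hf l)
    fun m => ?_
  let w := pullback.snd f l
  have e2 : (yπ w m 0 ≫ pullback.fst f l) ≫ f ≫ g = ya w m ≫ l ≫ g := by
    rw [← yπ_f w m 0, Category.assoc, Category.assoc, pullback.condition_assoc]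
  exact isCohDescentMap_of_lift _ (pullback.lift _ _ e2) (pullback.lift_snd _ _ _)

theorem isUnivCohDescentMap_map {X' Y Y' : TopCat.{u}} (pX : X' ⟶ S) (pY : Y' ⟶ S) (f : X ⟶ X') (g : Y ⟶ Y')
    (hf : FibDesc.IsUnivCohDescentMap f) (hg : FibDesc.IsUnivCohDescentMap g) :
    FibDesc.IsUnivCohDescentMap
      (pullback.map (f ≫ pX) (g ≫ pY) pX pY f g (𝟙 S) (Category.comp_id _) (Category.comp_id _)) := by
  let a : pullback (f ≫ pX) (g ≫ pY) ⟶ pullback pX (g ≫ pY) :=
    pullback.map _ _ _ _ f (𝟙 Y) (𝟙 S) (Category.comp_id _) (by rw [Category.comp_id, Category.id_comp])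
  let b : pullback pX (g ≫ pY) ⟶ pullback pX pY :=
    pullback.map _ _ _ _ (𝟙 X') g (𝟙 S) (by rw [Category.comp_id, Category.id_comp]) (Category.comp_id _)
  have e : pullback.map (f ≫ pX) (g ≫ pY) pX pY f g (𝟙 S) (Category.comp_id _) (Category.comp_id _) = a ≫ b := by
    apply pullback.hom_ext <;> simp [a, b]
  rw [e]
  refine isUnivCohDescentMap_comp a b ?_ ?_
  · refine isUnivCohDescentMap_of_iso (pullbackRightPullbackFstIso pX (g ≫ pY) f) ?_
      (isUnivCohDescentMap_snd hf (pullback.fst pX (g ≫ pY)))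
    apply pullback.hom_ext <;> simp [a, pullback.condition]
  · refine isUnivCohDescentMap_of_iso
      (pullbackSymmetry g (pullback.snd pX pY) ≪≫ pullbackLeftPullbackSndIso pX pY g) ?_
      (isUnivCohDescentMap_snd hg (pullback.snd pX pY))
    apply pullback.hom_ext <;> simp [b, pullback.condition]

end Groth.Agent.FibDescLoc
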