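import Groth.Agent.DerPlus.Adjoint
import Groth.Agent.KInj.Adjunction
import Mathlib

/-!
# A criterion for an exact left adjoint to be fully faithful on bounded below derived categories
-/

set_option autoImplicit false
set_option linter.style.haveILetI false
set_option linter.unusedSectionVars false
set_option backward.isDefEq.respectTransparency false
set_option backward.isDefEq.respectTransparency.types false

universe v v' u u'

open CategoryTheory Limits

namespace Groth.Agent.FibDescLoc

attribute [local instance] HasDerivedCategory.standard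

variable {A : Type u} [Category.{v} A] [Abelian A] [EnoughInjectives A]
  {B : Type u'} [Category.{v'} B] [Abelian B] [EnoughInjectives B]
  {L : A ⥤ B} {R : B ⥤ A} (adj : L ⊣ R) [L.Additive] [R.Additive]
  [PreservesFiniteLimits L] [PreservesFiniteColimits L]

local notation "L'" => Functor.mapHomologicalComplex L (ComplexShape.up ℤ)
local notation "R'" => Functor.mapHomologicalComplex R (ComplexShape.up ℤ)
local notation "QA" => (DerivedCategory.Q : CochainComplex A ℤ ⥤ DerivedCategory A)
local notation "QB" => (DerivedCategory.Q : CochainComplex B ℤ ⥤ DerivedCategory B)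

include adj in
theorem injective_R_obj {I : B} (hI : Injective I) : Injective (R.obj I) :=
  adj.map_injective I hI

theorem map_eq_map_iff {C : Type u} [Category.{v} C] [Abelian C] {X I : CochainComplex C ℤ} [I.IsKInjective]
    (f g : X ⟶ I) : DerivedCategory.Q.map f = DerivedCategory.Q.map g ↔
      (HomotopyCategory.quotient C (ComplexShape.up ℤ)).map f =
        (HomotopyCategory.quotient C (ComplexShape.up ℤ)).map g := by
  constructor
  · intro h
    refine (CochainComplex.IsKInjective.Qh_map_bijective _ I).1 ?_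
    rw [← cancel_epi ((DerivedCategory.quotientCompQhIso C).inv.app X)]
    have hn := fun k : X ⟶ I => (DerivedCategory.quotientCompQhIso C).inv.naturality k
    exact ((hn f).symm.trans (by rw [h])).trans (hn g)
  · intro h
    rw [← cancel_epi ((DerivedCategory.quotientCompQhIso C).hom.app X)]
    have hn := fun k : X ⟶ I => (DerivedCategory.quotientCompQhIso C).hom.naturality k
    exact ((hn f).symm.trans (congrArg (fun k => DerivedCategory.Qh.map k ≫ _) h)).trans (hn g)

theorem exists_map_eq {C : Type u} [Category.{v} C] [Abelian C] {X I : CochainComplex C ℤ} [I.IsKInjective]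
    (φ : DerivedCategory.Q.obj X ⟶ DerivedCategory.Q.obj I) : ∃ f : X ⟶ I, DerivedCategory.Q.map f = φ := by
  obtain ⟨g, hg⟩ := (CochainComplex.IsKInjective.Qh_map_bijective _ I).2
    ((DerivedCategory.quotientCompQhIso C).hom.app X ≫ φ ≫ (DerivedCategory.quotientCompQhIso C).inv.app I)
  obtain ⟨f, rfl⟩ := (HomotopyCategory.quotient C _).map_surjective g
  refine ⟨f, ?_⟩
  have hn := (DerivedCategory.quotientCompQhIso C).hom.naturality f
  rw [← cancel_epi ((DerivedCategory.quotientCompQhIso C).hom.app X), ← hn]
  refine (congrArg (· ≫ _) hg).trans ?_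
  simp

/-- the transposition on derived categories -/
noncomputable def psi (X : CochainComplex A ℤ) (I : CochainComplex B ℤ) (f : (QA).obj X ⟶ (QA).obj ((R').obj I)) :
    (QB).obj ((L').obj X) ⟶ (QB).obj I :=
  L.mapDerivedCategoryFactors.inv.app X ≫ L.mapDerivedCategory.map f ≫
    L.mapDerivedCategoryFactors.hom.app ((R').obj I) ≫
      (QB).map ((KInj.mapHomologicalComplexAdj adj (ComplexShape.up ℤ)).counit.app I)

theorem psi_Q (X : CochainComplex A ℤ) (I : CochainComplex B ℤ) (f : X ⟶ (R').obj I) :
    psi adj X I ((QA).map f) =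
      (QB).map (((KInj.mapHomologicalComplexAdj adj (ComplexShape.up ℤ)).homEquiv X I).symm f) := by
  rw [psi, Adjunction.homEquiv_counit, Functor.map_comp]
  have h := L.mapDerivedCategoryFactors.hom.naturality f
  simp only [Functor.comp_map] at h
  rw [reassoc_of% h]
  exact (Iso.inv_hom_id_app_assoc L.mapDerivedCategoryFactors X _)

theorem psi_bijective (X : CochainComplex A ℤ) (I : CochainComplex B ℤ) [I.IsKInjective]
    [CochainComplex.IsKInjective ((R').obj I)] : Function.Bijective (psi adj X I) := by
  let adjC := KInj.mapHomologicalComplexAdj adj (ComplexShape.up ℤ)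
  let adjH := KInj.mapHomotopyCategoryAdj adj (ComplexShape.up ℤ)
  have hH : ∀ g : X ⟶ (R').obj I, (adjH.homEquiv ((HomotopyCategory.quotient A _).obj X)
      ((HomotopyCategory.quotient B _).obj I)).symm ((HomotopyCategory.quotient A _).map g) =
      (HomotopyCategory.quotient B _).map ((adjC.homEquiv X I).symm g) := fun g => by
    rw [Adjunction.homEquiv_counit, Adjunction.homEquiv_counit, Functor.map_comp]
    rfl
  refine ⟨fun f g h => ?_, fun φ => ?_⟩
  · obtain ⟨f, rfl⟩ := exists_map_eq f
    obtain ⟨g, rfl⟩ := exists_map_eq g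
    rw [psi_Q, psi_Q, map_eq_map_iff, ← hH, ← hH] at h
    rw [map_eq_map_iff]
    exact (adjH.homEquiv _ _).symm.injective h
  · obtain ⟨k, rfl⟩ := exists_map_eq φ
    exact ⟨(QA).map ((adjC.homEquiv X I) k), by rw [psi_Q, Equiv.symm_apply_apply]⟩

theorem psi_comp (X N : CochainComplex A ℤ) (I : CochainComplex B ℤ) (i : (L').obj N ⟶ I) (g : (QA).obj X ⟶ (QA).obj N) :
    psi adj X I (g ≫ (QA).map ((KInj.mapHomologicalComplexAdj adj (ComplexShape.up ℤ)).homEquiv N I i)) =
      L.mapDerivedCategoryFactors.inv.app X ≫ L.mapDerivedCategory.map g ≫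
        L.mapDerivedCategoryFactors.hom.app N ≫ (QB).map i := by
  have h := psi_Q adj N I ((KInj.mapHomologicalComplexAdj adj (ComplexShape.up ℤ)).homEquiv N I i)
  rw [Equiv.symm_apply_apply, psi] at h
  replace h := congrArg (fun k => L.mapDerivedCategoryFactors.hom.app N ≫ k) h
  simp only [Iso.hom_inv_id_app_assoc] at h
  rw [psi, Functor.map_comp, Category.assoc]
  exact congrArg (fun k => L.mapDerivedCategoryFactors.inv.app X ≫ L.mapDerivedCategory.map g ≫ k) h

/-- fully faithful on bounded below complexes -/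
def FF (L : A ⥤ B) [L.Additive] [PreservesFiniteLimits L] [PreservesFiniteColimits L] : Prop :=
  ∀ (K N : DerivedCategory.Plus A), Function.Bijective fun g : K.obj ⟶ N.obj => L.mapDerivedCategory.map g

/-- the unit is invertible and the images of `L` are `R`-acyclic -/
def Good : Prop :=
  ∀ X : A, IsIso (adj.unit.app X) ∧ ∀ q : ℕ, 0 < q → IsZero ((R.rightDerived q).obj (L.obj X))

include adj in
theorem preservesFiniteLimits_R : PreservesFiniteLimits R :=
  haveI : PreservesLimitsOfSize.{0, 0} R := adj.rightAdjoint_preservesLimits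
  PreservesLimitsOfSize.preservesFiniteLimits _

theorem bijective_comp_of_FF (hL : FF L) (X N : CochainComplex A ℤ) (I : CochainComplex B ℤ)
    (hX : ∃ n, X.IsStrictlyGE n) (hN : ∃ n, N.IsStrictlyGE n) [I.IsKInjective] [CochainComplex.IsKInjective ((R').obj I)]
    (i : (L').obj N ⟶ I) [QuasiIso i] :
    Function.Bijective fun g : (QA).obj X ⟶ (QA).obj N =>
      g ≫ (QA).map ((KInj.mapHomologicalComplexAdj adj (ComplexShape.up ℤ)).homEquiv N I i) := by
  obtain ⟨a, _⟩ := hX
  obtain ⟨b, _⟩ := hN
  rw [← (psi_bijective adj X I).of_comp_iff']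
  show Function.Bijective fun g => psi adj X I (g ≫ _)
  simp only [psi_comp]
  have hb : Function.Bijective fun g : (QA).obj X ⟶ (QA).obj N => L.mapDerivedCategory.map g :=
    hL ⟨(QA).obj X, a, inferInstance⟩ ⟨(QA).obj N, b, inferInstance⟩
  exact ((asIso (L.mapDerivedCategoryFactors.hom.app N ≫ (QB).map i)).homToEquiv.bijective.comp hb |>
    (Iso.homFromEquiv (L.mapDerivedCategoryFactors.app X)).bijective.comp)

theorem good_of_FF (hL : FF L) : Good adj := by
  intro X
  haveI := preservesFiniteLimits_R adj
  have hunit : IsIso (adj.unit.app X) := by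
    have hb : ∀ W : A, Function.Bijective fun f : W ⟶ X => f ≫ adj.unit.app X := fun W => by
      have h0 : Function.Bijective fun f : W ⟶ X => L.map f := by
        let SA := DerivedCategory.singleFunctor A 0
        let SB := DerivedCategory.singleFunctor B 0
        obtain ⟨e⟩ : Nonempty (SA ⋙ L.mapDerivedCategory ≅ L ⋙ SB) := ⟨L.mapDerivedCategorySingleFunctor 0⟩
        have hb : Function.Bijective fun g : SA.obj W ⟶ SA.obj X => L.mapDerivedCategory.map g :=
          hL ⟨SA.obj W, 0, inferInstance⟩ ⟨SA.obj X, 0, inferInstance⟩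
        have hA : Function.Bijective fun f : W ⟶ X => SA.map f :=
          ⟨fun _ _ h => SA.map_injective h, fun g => SA.map_surjective g⟩
        have key : ∀ f : W ⟶ X, SB.map (L.map f) = e.inv.app W ≫ L.mapDerivedCategory.map (SA.map f) ≫ e.hom.app X := by
          intro f
          refine (cancel_epi (e.hom.app W)).1 ?_
          rw [Iso.hom_inv_id_app_assoc]
          exact (e.hom.naturality f).symm
        refine ⟨fun f g h => hA.1 (hb.1 ?_), fun k => ?_⟩
        · have hk := congrArg SB.map (show L.map f = L.map g from h)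
          rw [key, key] at hk
          exact (cancel_mono (e.hom.app X)).1 ((cancel_epi (e.inv.app W)).1 hk)
        · obtain ⟨g, hg⟩ := hb.2 (e.hom.app W ≫ SB.map k ≫ e.inv.app X)
          obtain ⟨f, rfl⟩ := hA.2 g
          refine ⟨f, SB.map_injective ((key f).trans ?_)⟩
          rw [show L.mapDerivedCategory.map (SA.map f) = _ from hg]
          erw [Category.assoc, Category.assoc, Iso.inv_hom_id_app, Category.comp_id, Iso.inv_hom_id_app_assoc]
      have : (fun f : W ⟶ X => f ≫ adj.unit.app X) = (adj.homEquiv W (L.obj X)) ∘ fun f : W ⟶ X => L.map f := by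
        funext f
        rw [Function.comp_apply, Adjunction.homEquiv_unit]
        exact adj.unit.naturality f
      rw [this]
      exact (Equiv.bijective _).comp h0
    obtain ⟨g, hg⟩ := (hb _).2 (𝟙 _)
    exact ⟨g, (hb X).1 (by simp [show g ≫ adj.unit.app X = _ from hg]), hg⟩
  refine ⟨hunit, fun q hq => ?_⟩
  let Res := injectiveResolution (L.obj X)
  let N : CochainComplex A ℤ := (CochainComplex.singleFunctor A 0).obj X
  let I := Res.cochainComplex
  haveI : I.IsKInjective := CochainComplex.isKInjective_of_injective I 0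
  haveI : CochainComplex.IsKInjective ((R').obj I) := by
    haveI : ∀ n, Injective (((R').obj I).X n) := fun n => injective_R_obj adj (inferInstance : Injective (I.X n))
    exact CochainComplex.isKInjective_of_injective _ 0
  let s : (L').obj N ≅ (CochainComplex.singleFunctor B 0).obj (L.obj X) :=
    (HomologicalComplex.singleMapHomologicalComplex L (ComplexShape.up ℤ) 0).app X
  let i : (L').obj N ⟶ I := s.hom ≫ Res.ι'
  let φ : N ⟶ (R').obj I := (KInj.mapHomologicalComplexAdj adj (ComplexShape.up ℤ)).homEquiv N I i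
  haveI : IsIso ((QA).map φ) := by
    have hR : CochainComplex.IsStrictlyGE ((R').obj I) 0 := inferInstance
    obtain ⟨g, hg⟩ := (bijective_comp_of_FF adj hL ((R').obj I) N I ⟨0, hR⟩ ⟨0, inferInstance⟩ i).2 (𝟙 _)
    exact ⟨g, (bijective_comp_of_FF adj hL N N I ⟨0, inferInstance⟩ ⟨0, inferInstance⟩ i).1
      (show ((QA).map φ ≫ g) ≫ (QA).map φ = 𝟙 _ ≫ (QA).map φ by
        rw [Category.assoc, show g ≫ (QA).map φ = _ from hg, Category.comp_id, Category.id_comp]), hg⟩
  have hφ : QuasiIso φ := (DerivedCategory.isIso_Q_map_iff_quasiIso (φ := φ)).1 inferInstance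
  have hRi : QuasiIso ((R').map Res.ι') := by
    have e : φ = ((KInj.mapHomologicalComplexAdj adj (ComplexShape.up ℤ)).unit.app N ≫ (R').map s.hom) ≫ (R').map Res.ι' := by
      simp only [φ, i, Adjunction.homEquiv_unit, Functor.map_comp, Category.assoc]
    rw [e] at hφ
    haveI : ∀ n, IsIso (((KInj.mapHomologicalComplexAdj adj (ComplexShape.up ℤ)).unit.app N).f n) := fun n => by
      show IsIso (adj.unit.app (N.X n))
      by_cases hn : n = 0
      · subst hn
        exact (NatTrans.isIso_app_iff_of_iso adj.unit (HomologicalComplex.singleObjXSelf _ 0 X)).2 hunit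
      · have h0 : IsZero (N.X n) := HomologicalComplex.isZero_single_obj_X _ _ _ _ hn
        have h1 : IsZero (R.obj (L.obj (N.X n))) := R.map_isZero (L.map_isZero h0)
        exact ⟨h1.to_ _, h0.eq_of_src _ _, h1.eq_of_src _ _⟩
    haveI : IsIso ((KInj.mapHomologicalComplexAdj adj (ComplexShape.up ℤ)).unit.app N) :=
      HomologicalComplex.Hom.isIso_of_components _
    exact (quasiIso_iff_comp_left _ _).1 hφ
  have h1 : QuasiIso ((R.mapHomologicalComplex (ComplexShape.up ℕ)).map Res.ι) := by
    rw [← DerPlus.mapExtend_quasiIso_iff R Res.ι]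
    rw [InjectiveResolution.ι', Functor.map_comp] at hRi
    exact (quasiIso_iff_comp_left _ _).1 hRi
  exact ((DerPlus.quasiIso_map_res_iff R (L.obj X) Res).1 h1).2 q hq

theorem FF_of_good (h : Good adj) : FF L := by
  haveI := preservesFiniteLimits_R adj
  intro K N
  obtain ⟨a, ha⟩ := K.property
  obtain ⟨b, hb⟩ := N.property
  haveI := ha; haveI := hb
  obtain ⟨X, _, ⟨eX⟩⟩ := DerivedCategory.exists_iso_Q_obj_of_isGE K.obj a
  obtain ⟨M, _, ⟨eM⟩⟩ := DerivedCategory.exists_iso_Q_obj_of_isGE N.obj b
  suffices hQ : Function.Bijective fun g : (QA).obj X ⟶ (QA).obj M => L.mapDerivedCategory.map g by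
    refine ⟨fun f g hfg => ?_, fun k => ?_⟩
    · have := hQ.1 (a₁ := eX.inv ≫ f ≫ eM.hom) (a₂ := eX.inv ≫ g ≫ eM.hom) (by
        show L.mapDerivedCategory.map _ = L.mapDerivedCategory.map _
        simp only [Functor.map_comp, show L.mapDerivedCategory.map f = _ from hfg])
      simpa using this
    · obtain ⟨g, hg⟩ := hQ.2 (L.mapDerivedCategory.map eX.inv ≫ k ≫ L.mapDerivedCategory.map eM.hom)
      refine ⟨eX.hom ≫ g ≫ eM.inv, ?_⟩
      show L.mapDerivedCategory.map _ = k
      rw [Functor.map_comp, Functor.map_comp, show L.mapDerivedCategory.map g = _ from hg]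
      simp [← Functor.map_comp, ← Functor.map_comp_assoc]
  let LM : CochainComplex.Plus B := ⟨(L').obj M, b, inferInstance⟩
  obtain ⟨J, hJ, i, hi⟩ := CochainComplex.Plus.exists_quasiIso_injective LM b
  let I : CochainComplex B ℤ := ((InjectiveObject.ι B).mapCochainComplexPlus.obj J).obj
  have hIge : I.IsStrictlyGE b :=
    (CochainComplex.isStrictlyGE_mapHomologicalComplex_obj_iff J.obj (InjectiveObject.ι B) b).2 hJ
  haveI : ∀ n, Injective (I.X n) := fun n => (J.obj.X n).property
  haveI : I.IsKInjective := CochainComplex.isKInjective_of_injective I b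
  haveI : CochainComplex.IsKInjective ((R').obj I) := by
    haveI : ∀ n, Injective (((R').obj I).X n) := fun n => injective_R_obj adj (inferInstance : Injective (I.X n))
    exact CochainComplex.isKInjective_of_injective _ b
  haveI : QuasiIso i.hom := hi
  let φ : M ⟶ (R').obj I := (KInj.mapHomologicalComplexAdj adj (ComplexShape.up ℤ)).homEquiv M I i.hom
  have hl := DerPlus.leray R LM fun m q hq => (h (M.X m)).2 q hq
  rw [DerPlus.isIso_unit_iff R i hi] at hl
  haveI : IsIso ((QA).map φ) := by
    rw [DerivedCategory.isIso_Q_map_iff_quasiIso]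
    haveI : ∀ n, IsIso (((KInj.mapHomologicalComplexAdj adj (ComplexShape.up ℤ)).unit.app M).f n) :=
      fun n => (h (M.X n)).1
    haveI : IsIso ((KInj.mapHomologicalComplexAdj adj (ComplexShape.up ℤ)).unit.app M) :=
      HomologicalComplex.Hom.isIso_of_components _
    show QuasiIso ((KInj.mapHomologicalComplexAdj adj (ComplexShape.up ℤ)).homEquiv M I i.hom)
    rw [Adjunction.homEquiv_unit]
    exact (quasiIso_iff_comp_left _ _).2 hl
  have h1 : Function.Bijective fun g : (QA).obj X ⟶ (QA).obj M => psi adj X I (g ≫ (QA).map φ) :=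
    (psi_bijective adj X I).comp (asIso ((QA).map φ)).homToEquiv.bijective
  have h2 : (fun g : (QA).obj X ⟶ (QA).obj M => psi adj X I (g ≫ (QA).map φ)) =
      (fun k => L.mapDerivedCategoryFactors.inv.app X ≫ k ≫
        (L.mapDerivedCategoryFactors.hom.app M ≫ (QB).map i.hom)) ∘ fun g => L.mapDerivedCategory.map g :=
    funext fun g => psi_comp adj X M I i.hom g
  rw [h2] at h1
  refine ⟨h1.1.of_comp, fun k => ?_⟩
  obtain ⟨g, hg⟩ := h1.2 (L.mapDerivedCategoryFactors.inv.app X ≫ k ≫
    (L.mapDerivedCategoryFactors.hom.app M ≫ (QB).map i.hom))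
  refine ⟨g, ?_⟩
  simp only [Function.comp_apply, cancel_epi, cancel_mono] at hg
  exact hg

theorem FF_iff_good : FF L ↔ Good adj := ⟨good_of_FF adj, FF_of_good adj⟩

end Groth.Agent.FibDescLoc
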