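import Groth.Agent.FibDescLoc.Site
import Mathlib

/-!
# Base change for right Kan extensions along an initial comparison of arrows
-/

set_option backward.isDefEq.respectTransparency false
set_option backward.isDefEq.respectTransparency.types false
set_option linter.style.haveILetI false
set_option linter.unusedSectionVars false
set_option autoImplicit false
set_option synthInstance.maxHeartbeats 400000
set_option maxHeartbeats 1600000

universe u

open CategoryTheory Limits Opposite Functor

namespace Groth.Agent.FibDescLoc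

open FibDescSplit (Sh res pb rk pbAdj rkAdj)

variable {B A P B' A' P' : Type u} [SmallCategory B] [SmallCategory A] [SmallCategory P]
  [SmallCategory B'] [SmallCategory A'] [SmallCategory P']
  (JB : GrothendieckTopology B) (JA : GrothendieckTopology A) (JP : GrothendieckTopology P)
  (JB' : GrothendieckTopology B') (JA' : GrothendieckTopology A') (JP' : GrothendieckTopology P')
  (E : B ⥤ A) (i : P ⥤ A) (E' : B' ⥤ A') (i' : P' ⥤ A')
  (b : B' ⥤ B) (a : A' ⥤ A) (p : P' ⥤ P)
  [E.IsContinuous JB JA] [i.IsContinuous JP JA] [i.IsCocontinuous JP JA]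
  [E'.IsContinuous JB' JA'] [i'.IsContinuous JP' JA'] [i'.IsCocontinuous JP' JA']
  [b.IsContinuous JB' JB] [a.IsContinuous JA' JA] [p.IsContinuous JP' JP]
  (eτ : b ⋙ E ≅ E' ⋙ a) (eσ : p ⋙ i ≅ i' ⋙ a)

/-- a factorization of `f : i z ⟶ a c` through the square -/
structure Fac (c : A') (z : P) (f : i.obj z ⟶ a.obj c) where
  z' : P'
  h : z ⟶ p.obj z'
  g : i'.obj z' ⟶ c
  eq : i.map h ≫ eσ.hom.app z' ≫ a.map g = f

/-- every factorization is connected to a given one by a roof -/
def HasFac (c : A') : Prop :=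
  ∀ (z : P) (f : i.obj z ⟶ a.obj c), ∃ F₀ : Fac i i' a p eσ c z f, ∀ F : Fac i i' a p eσ c z f,
    ∃ (F₁ : Fac i i' a p eσ c z f) (k₀ : F₁.z' ⟶ F₀.z') (k : F₁.z' ⟶ F.z'),
      F₁.h ≫ p.map k₀ = F₀.h ∧ i'.map k₀ ≫ F₀.g = F₁.g ∧ F₁.h ≫ p.map k = F.h ∧ i'.map k ≫ F.g = F₁.g

theorem isIso_rho_app_of_hasFac (M : Sh JP) (c : A') (hfac : HasFac i i' a p eσ c) :
    IsIso ((rho (rkAdj i JP JA) (rkAdj i' JP' JA') (res a JA' JA) (res p JP' JP)
      (sigmaIso JA JP JA' JP' i i' a p eσ) M).hom.app (op c)) := by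
  let aI := rkAdj i JP JA
  let aI' := rkAdj i' JP' JA'
  let ρ := rho aI aI' (res a JA' JA) (res p JP' JP) (sigmaIso JA JP JA' JP' i i' a p eσ) M
  let Φ : StructuredArrow (op c) i'.op ⥤ StructuredArrow (op (a.obj c)) i.op :=
    { obj := fun f => StructuredArrow.mk (Y := op (p.obj f.right.unop))
        (eσ.hom.app f.right.unop ≫ a.map f.hom.unop).op
      map := fun {f g} φ => StructuredArrow.homMk (p.map φ.right.unop).op (by
        apply Quiver.Hom.unop_inj
        show i.map (p.map φ.right.unop) ≫ eσ.hom.app f.right.unop ≫ a.map f.hom.unop =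
          eσ.hom.app g.right.unop ≫ a.map g.hom.unop
        have hn := eσ.hom.naturality φ.right.unop
        simp only [Functor.comp_map] at hn
        simp only [Functor.comp_obj] at hn
        rw [reassoc_of% hn, ← a.map_comp]
        congr 2
        exact congrArg Quiver.Hom.unop (StructuredArrow.w φ))
      map_id := fun f => StructuredArrow.ext _ _ (Quiver.Hom.unop_inj (p.map_id _))
      map_comp := fun φ ψ => StructuredArrow.ext _ _ (Quiver.Hom.unop_inj (p.map_comp _ _)) }
  haveI : Φ.Initial := ⟨fun d => by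
    obtain ⟨F₀, hF₀⟩ := hfac d.right.unop d.hom.unop
    let mkO : Fac i i' a p eσ c d.right.unop d.hom.unop → CostructuredArrow Φ d := fun F =>
      let Y : StructuredArrow (op c) i'.op := StructuredArrow.mk (Y := op F.z') F.g.op
      let m : Φ.obj Y ⟶ d := StructuredArrow.homMk F.h.op (Quiver.Hom.unop_inj (by
        show i.map F.h ≫ eσ.hom.app F.z' ≫ a.map F.g = d.hom.unop
        exact F.eq))
      CostructuredArrow.mk m
    haveI : Nonempty (CostructuredArrow Φ d) := ⟨mkO F₀⟩
    have key : ∀ j : CostructuredArrow Φ d, Zigzag j (mkO F₀) := fun j => by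
      let F : Fac i i' a p eσ c d.right.unop d.hom.unop :=
        ⟨j.left.right.unop, j.hom.right.unop, j.left.hom.unop,
          congrArg Quiver.Hom.unop (StructuredArrow.w j.hom)⟩
      obtain ⟨F₁, k₀, k, h1, h2, h3, h4⟩ := hF₀ F
      let m₀ : mkO F₀ ⟶ mkO F₁ := CostructuredArrow.homMk
        (StructuredArrow.homMk k₀.op (Quiver.Hom.unop_inj h2))
        (StructuredArrow.ext _ _ (Quiver.Hom.unop_inj h1))
      let m : j ⟶ mkO F₁ := CostructuredArrow.homMk
        (StructuredArrow.homMk k.op (Quiver.Hom.unop_inj h4))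
        (StructuredArrow.ext _ _ (Quiver.Hom.unop_inj h3))
      exact (Zigzag.of_hom m).trans (Zigzag.of_inv m₀)
    exact zigzag_isConnected fun j₁ j₂ => (key j₁).trans (key j₂).symm⟩
  have hL := i.op.isPointwiseRightKanExtensionRanCounit M.obj (op (a.obj c))
  have hL' := i'.op.isPointwiseRightKanExtensionRanCounit ((res p JP' JP).obj M).obj (op c)
  have hW := (Functor.Initial.isLimitWhiskerEquiv Φ _).symm hL
  have hfac : ∀ f : StructuredArrow (op c) i'.op,
      ρ.hom.app (op c) ≫ ((RightExtension.mk _ (i'.op.ranCounit.app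
        ((res p JP' JP).obj M).obj)).coneAt (op c)).π.app f =
      ((RightExtension.mk _ (i.op.ranCounit.app M.obj)).coneAt
        (op (a.obj c))).π.app (Φ.obj f) := by
    intro f
    have hρ : (res i' JP' JA').map ρ ≫ aI'.counit.app _ =
        (sigmaIso JA JP JA' JP' i i' a p eσ).inv.app ((rk i JP JA).obj M) ≫ (res p JP' JP).map (aI.counit.app M) := by
      have h := (aI'.homEquiv _ _).symm_apply_apply
        ((sigmaIso JA JP JA' JP' i i' a p eσ).inv.app ((rk i JP JA).obj M) ≫ (res p JP' JP).map (aI.counit.app M))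
      rw [Adjunction.homEquiv_counit] at h
      exact h
    have h2 := congrArg (fun t => t.hom.app f.right) hρ
    have hc : ∀ N : Sh JP, (aI.counit.app N).hom = (i.op.ranAdjunction AddCommGrpCat.{u}).counit.app N.obj :=
      fun N => Functor.sheafAdjunctionCocontinuous_counit_app_hom i AddCommGrpCat.{u} JP JA N
    have hc' : ∀ N : Sh JP', (aI'.counit.app N).hom = (i'.op.ranAdjunction AddCommGrpCat.{u}).counit.app N.obj :=
      fun N => Functor.sheafAdjunctionCocontinuous_counit_app_hom i' AddCommGrpCat.{u} JP' JA' N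
    show ρ.hom.app (op c) ≫ ((rk i' JP' JA').obj _).obj.map f.hom ≫ _ =
      ((rk i JP JA).obj M).obj.map (eσ.hom.app f.right.unop ≫ a.map f.hom.unop).op ≫ _
    rw [← reassoc_of% (ρ.hom.naturality f.hom), op_comp, Functor.map_comp, Category.assoc]
    refine congrArg (fun k => ((rk i JP JA).obj M).obj.map (a.map f.hom.unop).op ≫ k) ?_
    rw [Functor.ranAdjunction_counit] at hc hc'
    rw [← hc, ← hc']
    exact h2
  have e : ρ.hom.app (op c) = hL'.lift
      ((Cone.postcompose (𝟙 _)).obj (((RightExtension.mk _ (i.op.ranCounit.app M.obj)).coneAt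
        (op (a.obj c))).whisker Φ)) := hL'.hom_ext fun f => by
    rw [hfac, hL'.fac]
    exact (Category.comp_id _).symm
  rw [e]
  exact (IsLimit.conePointUniqueUpToIso ((IsLimit.postcomposeHomEquiv (Iso.refl _) _).symm hW) hL').isIso_hom

/-- the comparison of extensions is invertible when the transposed square has factorizations -/
theorem isIso_gam_of_hasFac [a.IsCocontinuous JA' JA] [b.IsCocontinuous JB' JB]
    (hfac : ∀ U : B, HasFac a b E E' eτ.symm U) (X : Sh JB) :
    IsIso (gam (pbAdj E JB JA) (pbAdj E' JB' JA') (res b JB' JB) (res a JA' JA) (tauIso JB JA JB' JA' E E' b a eτ) X) := by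
  let aE := pbAdj E JB JA
  let aE' := pbAdj E' JB' JA'
  let bb := res b JB' JB
  let aa := res a JA' JA
  let τ := tauIso JB JA JB' JA' E E' b a eτ
  let SA := rkAdj a JA' JA
  let SB := rkAdj b JB' JB
  let σ := sigmaIso JA JA' JB JB' a b E E' eτ.symm
  have hσ : ∀ M : Sh JA, σ.inv.app M = τ.hom.app M := fun M => rfl
  let ψ : ∀ M : Sh JA', (res E JB JA).obj ((rk a JA' JA).obj M) ⟶ (rk b JB' JB).obj ((res E' JB' JA').obj M) :=
    fun M => rho SA SB (res E JB JA) (res E' JB' JA') σ M
  have hψ : ∀ M : Sh JA', bb.map (ψ M) ≫ SB.counit.app ((res E' JB' JA').obj M) =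
      τ.hom.app ((rk a JA' JA).obj M) ≫ (res E' JB' JA').map (SA.counit.app M) := fun M => by
    have h := (SB.homEquiv _ _).symm_apply_apply
      (σ.inv.app ((rk a JA' JA).obj M) ≫ (res E' JB' JA').map (SA.counit.app M))
    rw [Adjunction.homEquiv_counit, hσ] at h
    exact h
  haveI : ∀ M, IsIso (ψ M) := fun M => by
    haveI : ∀ U, IsIso (((sheafToPresheaf JB AddCommGrpCat.{u}).map (ψ M)).app U) := fun U =>
      isIso_rho_app_of_hasFac JA JA' JB JB' a b E E' eτ.symm M U.unop (hfac _)
    haveI := NatIso.isIso_of_isIso_app ((sheafToPresheaf JB AddCommGrpCat.{u}).map (ψ M))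
    exact isIso_of_reflects_iso _ (sheafToPresheaf JB AddCommGrpCat.{u})
  have key : ∀ M : Sh JA', Function.Bijective fun g : aa.obj ((pb E JB JA).obj X) ⟶ M =>
      gam aE aE' bb aa τ X ≫ g := by
    intro M
    rw [← (aE'.homEquiv _ _).bijective.of_comp_iff']
    have e : ((aE'.homEquiv (bb.obj X) M) ∘ fun g : aa.obj ((pb E JB JA).obj X) ⟶ M => gam aE aE' bb aa τ X ≫ g) =
        ((SB.homEquiv X ((res E' JB' JA').obj M)).symm ∘ fun k : X ⟶ (res E JB JA).obj ((rk a JA' JA).obj M) =>
          k ≫ ψ M) ∘ (aE.homEquiv X _) ∘ (SA.homEquiv _ M) := by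
      funext g
      simp only [Function.comp_apply]
      rw [Adjunction.homEquiv_unit, Functor.map_comp, reassoc_of% gam_spec, Adjunction.homEquiv_counit]
      obtain ⟨h, rfl⟩ := (SA.homEquiv _ M).symm.surjective g
      rw [Equiv.apply_symm_apply, Adjunction.homEquiv_counit, Functor.map_comp, Adjunction.homEquiv_unit,
        Functor.map_comp bb, Functor.map_comp bb, Category.assoc, Category.assoc, hψ]
      have h1 := τ.hom.naturality h
      simp only [Functor.comp_map] at h1
      simp only [Functor.comp_obj] at h1 ⊢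
      rw [reassoc_of% h1]
    rw [e]
    exact ((Equiv.bijective _).comp (asIso (ψ M)).homToEquiv.bijective).comp
      ((Equiv.bijective _).comp (Equiv.bijective _))
  obtain ⟨g, hg⟩ := (key _).2 (𝟙 _)
  exact ⟨g, hg, (key _).1 (by
    show gam aE aE' bb aa τ X ≫ g ≫ gam aE aE' bb aa τ X = gam aE aE' bb aa τ X ≫ 𝟙 _
    rw [reassoc_of% (show gam aE aE' bb aa τ X ≫ g = 𝟙 _ from hg), Category.comp_id])⟩

end Groth.Agent.FibDescLoc
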