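import Groth.Agent.FibDescLoc.Site
import Mathlib

/-!
# Left Kan extensions along functors with discrete comma categories preserve monomorphisms
-/

set_option backward.isDefEq.respectTransparency false
set_option backward.isDefEq.respectTransparency.types false
set_option linter.style.haveILetI false
set_option linter.unusedSectionVars false
set_option autoImplicit false
set_option synthInstance.maxHeartbeats 400000

universe u

open CategoryTheory Limits Opposite Functor

namespace Groth.Agent.FibDescLoc

open FibDescSplit (Sh res pb rk pbAdj rkAdj)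

variable {C D : Type u} [SmallCategory C] [SmallCategory D] (G : C ⥤ D)
  (J : GrothendieckTopology C) (K : GrothendieckTopology D)

/-- every object has a family of arrows to `G` through which every arrow factors uniquely -/
def HasMultiAdj : Prop :=
  ∀ W : D, ∃ (ι : Type u) (c₀ : ι → C) (η : ∀ k, W ⟶ G.obj (c₀ k)),
    ∀ c : C, Function.Bijective fun q : (Σ k, c₀ k ⟶ c) => η q.1 ≫ G.map q.2

theorem mono_lan_map_of_multi (hG : HasMultiAdj G) {P Q : Cᵒᵖ ⥤ AddCommGrpCat.{u}} (φ : P ⟶ Q) [Mono φ] :
    Mono (G.op.lan.map φ) := by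
  haveI : ∀ W, Mono ((G.op.lan.map φ).app W) := fun W => by
    have hP := G.op.isPointwiseLeftKanExtensionLeftKanExtensionUnit P W
    have hQ := G.op.isPointwiseLeftKanExtensionLeftKanExtensionUnit Q W
    obtain ⟨ι, c₀, η, h⟩ := hG W.unop
    let Fd : Discrete ι ⥤ CostructuredArrow G.op W :=
      Discrete.functor fun k => CostructuredArrow.mk (Y := op (c₀ k)) (η k).op
    haveI : Fd.Final := ⟨fun g => by
      obtain ⟨⟨k, f⟩, hf⟩ := (h g.left.unop).2 g.hom.unop
      let m : g ⟶ Fd.obj ⟨k⟩ := CostructuredArrow.homMk f.op (Quiver.Hom.unop_inj hf)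
      haveI : Nonempty (StructuredArrow g Fd) := ⟨StructuredArrow.mk m⟩
      refine zigzag_isConnected fun j₁ j₂ => ?_
      suffices j₁ = j₂ by subst this; exact Relation.ReflTransGen.refl
      obtain ⟨⟨⟨⟩⟩, ⟨k₁⟩, f₁⟩ := j₁
      obtain ⟨⟨⟨⟩⟩, ⟨k₂⟩, f₂⟩ := j₂
      have e₁ : η k₁ ≫ G.map f₁.left.unop = g.hom.unop := congrArg Quiver.Hom.unop (CostructuredArrow.w f₁)
      have e₂ : η k₂ ≫ G.map f₂.left.unop = g.hom.unop := congrArg Quiver.Hom.unop (CostructuredArrow.w f₂)
      have e := (h g.left.unop).1 (a₁ := ⟨k₁, f₁.left.unop⟩) (a₂ := ⟨k₂, f₂.left.unop⟩) (e₁.trans e₂.symm)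
      obtain ⟨rfl, e'⟩ := Sigma.mk.inj_iff.1 e
      obtain rfl : f₁ = f₂ := CostructuredArrow.hom_ext _ _ (Quiver.Hom.unop_inj (eq_of_heq e'))
      rfl⟩
    have hP' := (Functor.Final.isColimitWhiskerEquiv Fd _).symm hP
    have hQ' := (Functor.Final.isColimitWhiskerEquiv Fd _).symm hQ
    let α := whiskerLeft Fd (whiskerLeft (CostructuredArrow.proj G.op W) φ)
    haveI : Mono α := by
      haveI : ∀ k, Mono (α.app k) := fun k => inferInstanceAs (Mono (φ.app _))
      exact NatTrans.mono_of_mono_app _
    haveI : PreservesFiniteLimits (colim : (Discrete ι ⥤ AddCommGrpCat.{u}) ⥤ AddCommGrpCat.{u}) :=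
      HasExactColimitsOfShape.preservesFiniteLimits
    haveI : Mono (colim.map α) := inferInstance
    let eP := IsColimit.coconePointUniqueUpToIso (colimit.isColimit _) hP'
    let eQ := IsColimit.coconePointUniqueUpToIso (colimit.isColimit _) hQ'
    have key : (G.op.lan.map φ).app W = eP.inv ≫ colim.map α ≫ eQ.hom := by
      refine hP'.hom_ext fun k => ?_
      have hι := IsColimit.comp_coconePointUniqueUpToIso_inv (colimit.isColimit _) hP' k
      refine Eq.trans ?_ ((reassoc_of% hι) _).symm
      have hι2 := IsColimit.comp_coconePointUniqueUpToIso_hom (colimit.isColimit _) hQ' k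
      refine Eq.trans ?_ ((ι_colimMap_assoc α k _).trans (congrArg (α.app k ≫ ·) hι2)).symm
      have h1 := congrArg (fun t => t.app (op (c₀ k.as))) (G.op.lanUnit.naturality φ)
      show ((G.op.lanUnit.app P).app (op (c₀ k.as)) ≫ (G.op.lan.obj P).map (η k.as).op) ≫ (G.op.lan.map φ).app W =
        φ.app (op (c₀ k.as)) ≫ (G.op.lanUnit.app Q).app (op (c₀ k.as)) ≫ (G.op.lan.obj Q).map (η k.as).op
      rw [Category.assoc, (G.op.lan.map φ).naturality]
      exact ((reassoc_of% h1) _).symm
    rw [key]
    exact mono_comp _ _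
  exact NatTrans.mono_of_mono_app _

theorem preservesInjective_res_of_multi [G.IsContinuous J K] (hG : HasMultiAdj G) :
    (res G J K).PreservesInjectiveObjects := by
  refine ⟨fun {I} hI => ?_⟩
  haveI : ∀ {X Y : Sh J} (f : X ⟶ Y) [Mono f], Mono ((pb G J K).map f) := fun {X Y} f _ => by
    haveI : Mono ((sheafToPresheaf J AddCommGrpCat.{u}).map f) := inferInstance
    haveI := mono_lan_map_of_multi G hG ((sheafToPresheaf J AddCommGrpCat.{u}).map f)
    haveI : Mono ((presheafToSheaf K AddCommGrpCat.{u}).map (G.op.lan.map ((sheafToPresheaf J AddCommGrpCat.{u}).map f))) :=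
      inferInstance
    let e := sheafPullbackConstruction.sheafPullbackIso G AddCommGrpCat.{u} J K
    have : Mono ((sheafPullbackConstruction.sheafPullback G AddCommGrpCat.{u} J K).map f) := this
    have h2 : (pb G J K).map f = e.hom.app X ≫ (sheafPullbackConstruction.sheafPullback G AddCommGrpCat.{u} J K).map f ≫ e.inv.app Y := by
      rw [← NatTrans.naturality_assoc]; simp
    rw [h2]
    exact mono_comp _ _
  haveI : (pb G J K).PreservesMonomorphisms := ⟨fun f _ => this f⟩
  exact (pbAdj G J K).map_injective I hI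

end Groth.Agent.FibDescLoc
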