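import Groth.Agent.FibDescLoc.Tot
import Groth.Agent.FibDescLoc.Initial
import Groth.Agent.FibDescLoc.Sigma
import Groth.Agent.FibDescLoc.Crit
import Mathlib

/-!
# Levelwise descent of a family of augmented indexed spaces
-/

set_option backward.isDefEq.respectTransparency false
set_option backward.isDefEq.respectTransparency.types false
set_option linter.style.haveILetI false
set_option linter.unusedSectionVars false
set_option autoImplicit false
set_option synthInstance.maxHeartbeats 400000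
set_option maxHeartbeats 1600000

universe u

open CategoryTheory CategoryTheory.Limits Opposite Pseudofunctor Pseudofunctor.CoGrothendieck TopologicalSpace

namespace Groth.Agent.FibDescLoc

open FibDescSplit (Sh res pb rk pbAdj rkAdj total_hom_ext)

attribute [local instance] HasDerivedCategory.standard

section Flat

variable {𝒯 𝒮 : Type} [SmallCategory 𝒯] [SmallCategory 𝒮] {Z : 𝒮 ⥤ TopCat.{u}} {Z' : 𝒯 ⥤ TopCat.{u}}
  (χ : 𝒯 ⥤ 𝒮) (τ : χ ⋙ Z ⟶ Z')

/-- universal arrows on the index categories give flatness -/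
theorem Mor_flat (h : ∀ s : 𝒮, ∃ (t₀ : 𝒯) (η₀ : s ⟶ χ.obj t₀),
    ∀ t, Function.Bijective fun k : t₀ ⟶ t => η₀ ≫ χ.map k) : RepresentablyFlat (Mor χ τ) := ⟨fun X => by
  obtain ⟨t₀, η₀, hu⟩ := h X.base
  haveI : Nonempty (StructuredArrow X (Mor χ τ)) :=
    ⟨StructuredArrow.mk (Y := tobj Z' t₀ ⊤) (tmk η₀ fun _ _ => trivial)⟩
  let pre : ∀ a : StructuredArrow X (Mor χ τ), {k : t₀ ⟶ a.right.base // η₀ ≫ χ.map k = a.hom.base} := fun a =>
    ⟨((hu a.right.base).2 a.hom.base).choose, ((hu a.right.base).2 a.hom.base).choose_spec⟩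
  let Wa : StructuredArrow X (Mor χ τ) → Opens (Z'.obj t₀) := fun a => (Opens.map (Z'.map (pre a).1)).obj a.right.fiber
  have hx : ∀ (a : StructuredArrow X (Mor χ τ)) (q : Z.obj X.base),
      q ∈ (show Opens (Z.obj X.base) from X.fiber) → τ.app t₀ (Z.map η₀ q) ∈ Wa a := by
    intro a q hq
    show Z'.map (pre a).1 (τ.app t₀ (Z.map η₀ q)) ∈ (show Opens (Z'.obj a.right.base) from a.right.fiber)
    have e : Z'.map (pre a).1 (τ.app t₀ (Z.map η₀ q)) = τ.app a.right.base (Z.map (χ.map (pre a).1) (Z.map η₀ q)) :=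
      (ConcreteCategory.congr_hom (τ.naturality (pre a).1) _).symm
    have e2 : Z.map (χ.map (pre a).1) (Z.map η₀ q) = Z.map a.hom.base q :=
      (ConcreteCategory.congr_hom (Z.map_comp η₀ (χ.map (pre a).1)) q).symm.trans
        (congrArg (fun g => Z.map g q) (pre a).2)
    rw [e, e2]
    exact le_hom a.hom hq
  haveI : IsCofilteredOrEmpty (StructuredArrow X (Mor χ τ)) := {
    cone_objs := fun a b =>
      ⟨StructuredArrow.mk (Y := tobj Z' t₀ (Wa a ⊓ Wa b)) (tmk η₀ fun q hq => ⟨hx a q hq, hx b q hq⟩),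
        StructuredArrow.homMk (tmk (pre a).1 inf_le_left) (total_hom_ext (pre a).2),
        StructuredArrow.homMk (tmk (pre b).1 inf_le_right) (total_hom_ext (pre b).2), trivial⟩
    cone_maps := fun a b p q => by
      refine ⟨StructuredArrow.mk (Y := tobj Z' t₀ (Wa a)) (tmk η₀ fun z hz => hx a z hz),
        StructuredArrow.homMk (tmk (pre a).1 le_rfl) (total_hom_ext (pre a).2),
        StructuredArrow.ext _ _ (total_hom_ext ((hu _).1 ?_))⟩
      show η₀ ≫ χ.map ((pre a).1 ≫ p.right.base) = η₀ ≫ χ.map ((pre a).1 ≫ q.right.base)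
      rw [χ.map_comp, χ.map_comp, reassoc_of% (pre a).2, reassoc_of% (pre a).2]
      exact (congrArg CoGrothendieck.Hom.base (StructuredArrow.w p) :).trans
        (congrArg CoGrothendieck.Hom.base (StructuredArrow.w q) :).symm }
  exact { }⟩

end Flat

variable {D ℰ : Type} [SmallCategory D] [SmallCategory ℰ]

/-- the column of `m` -/
@[simps] def colF (𝒯 : Type) [SmallCategory 𝒯] {ℰ : Type} [SmallCategory ℰ] (m : ℰ) : 𝒯 ⥤ 𝒯 × ℰ where
  obj x := (x, m)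
  map f := (f, 𝟙 m)

/-- the row of `x` -/
@[simps] def rowF {𝒯 : Type} [SmallCategory 𝒯] (ℰ : Type) [SmallCategory ℰ] (x : 𝒯) : ℰ ⥤ 𝒯 × ℰ where
  obj m := (x, m)
  map f := (𝟙 x, f)

/-- the identity transformation of a restriction -/
def idT {𝒯 𝒮 : Type} [SmallCategory 𝒯] [SmallCategory 𝒮] (χ : 𝒯 ⥤ 𝒮) (Z : 𝒮 ⥤ TopCat.{u}) : χ ⋙ Z ⟶ χ ⋙ Z := 𝟙 _

instance idT_isIso {𝒯 𝒮 : Type} [SmallCategory 𝒯] [SmallCategory 𝒮] (χ : 𝒯 ⥤ 𝒮) (Z : 𝒮 ⥤ TopCat.{u}) (x : 𝒯) :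
    IsIso ((idT χ Z).app x) := inferInstanceAs (IsIso (𝟙 _))

variable (Z₀ : (WithInitial D)ᵒᵖ × ℰ ⥤ TopCat.{u})

/-- the index functor of the part -/
abbrev κP : Dᵒᵖ × ℰ ⥤ (WithInitial D)ᵒᵖ × ℰ := (FibDesc.toAug D).prod (𝟭 ℰ)

/-- the base spaces -/
noncomputable abbrev ZE : ℰ ⥤ TopCat.{u} := rowF ℰ (FibDesc.bot D) ⋙ Z₀

/-- the part spaces -/
noncomputable abbrev ZW : Dᵒᵖ × ℰ ⥤ TopCat.{u} := κP ⋙ Z₀

/-- the base inclusion -/
noncomputable abbrev eF : TS (ZE Z₀) ⥤ TS Z₀ := Mor (rowF ℰ (FibDesc.bot D)) (idT _ Z₀)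

/-- the part inclusion -/
noncomputable abbrev iF : TS (ZW Z₀) ⥤ TS Z₀ := Mor κP (idT _ Z₀)

instance iF_cocontinuous : (iF Z₀).IsCocontinuous (tJ (ZW Z₀)) (tJ Z₀) := Mor_isCocontinuous _ _

theorem eF_flat : RepresentablyFlat (eF Z₀) := Mor_flat _ _ fun s =>
  ⟨s.2, (toBot s.1, 𝟙 s.2), fun t => by
    refine ⟨fun k k' h => ?_, fun g => ⟨g.2, Prod.ext ((FibDescSplit.subsingleton_bot s.1).elim _ _) (Category.id_comp _)⟩⟩
    have h2 : (toBot s.1 ≫ 𝟙 (FibDesc.bot D), 𝟙 s.2 ≫ k) = (toBot s.1 ≫ 𝟙 (FibDesc.bot D), 𝟙 s.2 ≫ k') := h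
    simpa using (Prod.ext_iff.1 h2).2⟩

instance pullF_limits : PreservesFiniteLimits (pb (eF Z₀) (tJ (ZE Z₀)) (tJ Z₀) ⋙ res (iF Z₀) (tJ (ZW Z₀)) (tJ Z₀)) :=
  haveI := eF_flat Z₀
  comp_preservesFiniteLimits _ _

instance pullF_colimits :
    PreservesFiniteColimits (pb (eF Z₀) (tJ (ZE Z₀)) (tJ Z₀) ⋙ res (iF Z₀) (tJ (ZW Z₀)) (tJ Z₀)) :=
  comp_preservesFiniteColimits _ _

/-- the adjunction of the family -/
noncomputable def levelAdj : pb (eF Z₀) (tJ (ZE Z₀)) (tJ Z₀) ⋙ res (iF Z₀) (tJ (ZW Z₀)) (tJ Z₀) ⊣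
    rk (iF Z₀) (tJ (ZW Z₀)) (tJ Z₀) ⋙ res (eF Z₀) (tJ (ZE Z₀)) (tJ Z₀) :=
  (pbAdj _ _ _).comp (rkAdj _ _ _)

instance pushF_additive :
    (rk (iF Z₀) (tJ (ZW Z₀)) (tJ Z₀) ⋙ res (eF Z₀) (tJ (ZE Z₀)) (tJ Z₀)).Additive :=
  (levelAdj Z₀).right_adjoint_additive

section Level

variable (m : ℰ) {Ym : (WithInitial D)ᵒᵖ ⥤ TopCat.{u}} (ρ : colF (WithInitial D)ᵒᵖ m ⋙ Z₀ ⟶ Ym)
  [∀ x, IsIso (ρ.app x)]

/-- the column on the part -/
noncomputable def ρP : colF Dᵒᵖ m ⋙ ZW Z₀ ⟶ FibDesc.toAug D ⋙ Ym where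
  app x := ρ.app ((FibDesc.toAug D).obj x)
  naturality x y f := ρ.naturality ((FibDesc.toAug D).map f)

instance ρP_isIso (x : Dᵒᵖ) : IsIso ((ρP Z₀ m ρ).app x) := inferInstanceAs (IsIso (ρ.app _))

/-- the base of the column -/
noncomputable def bF : (tp Ym).obj ⟨op (FibDesc.bot D)⟩ ⥤ TS (ZE Z₀) :=
  (Opens.map (ρ.app (FibDesc.bot D)) : Opens (Ym.obj (FibDesc.bot D)) ⥤ Opens ((ZE Z₀).obj m)) ⋙ ι (tp (ZE Z₀)) m

theorem bF_isContinuous : (bF Z₀ m ρ).IsContinuous (tpTop Ym (FibDesc.bot D)) (tJ (ZE Z₀)) := by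
  haveI := FibSiteLib.isContinuous_ι (isPreFibSite_tp (ZE Z₀)) m
  haveI : (Opens.map (ρ.app (FibDesc.bot D)) : Opens (Ym.obj (FibDesc.bot D)) ⥤ Opens ((ZE Z₀).obj m)).IsContinuous
      (tpTop Ym (FibDesc.bot D)) (tpTop (ZE Z₀) m) :=
    inferInstanceAs ((Opens.map (ρ.app (FibDesc.bot D))).IsContinuous (Opens.grothendieckTopology (Ym.obj (FibDesc.bot D)))
      (Opens.grothendieckTopology ((colF (WithInitial D)ᵒᵖ m ⋙ Z₀).obj (FibDesc.bot D))))
  exact Functor.isContinuous_comp _ _ _ (tpTop (ZE Z₀) m) _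

theorem bF_isCocontinuous : (bF Z₀ m ρ).IsCocontinuous (tpTop Ym (FibDesc.bot D)) (tJ (ZE Z₀)) := by
  haveI := FibSiteLib.isCocontinuous_ι (isPreFibSite_tp (ZE Z₀)) m
  haveI : (Opens.map (ρ.app (FibDesc.bot D)) : Opens (Ym.obj (FibDesc.bot D)) ⥤ Opens ((ZE Z₀).obj m)).IsCocontinuous
      (tpTop Ym (FibDesc.bot D)) (tpTop (ZE Z₀) m) := ⟨fun {U S} hS q hq => by
    let q' : (ZE Z₀).obj m := inv (ρ.app (FibDesc.bot D)) q
    have hq' : ρ.app (FibDesc.bot D) q' = q := ConcreteCategory.congr_hom (IsIso.inv_hom_id (ρ.app _)) q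
    obtain ⟨W, w, hw, hqW⟩ := hS q' (by show ρ.app _ q' ∈ (show Opens (Ym.obj (FibDesc.bot D)) from U); rw [hq']; exact hq)
    let W' : Opens (Ym.obj (FibDesc.bot D)) := (Opens.map (inv (ρ.app (FibDesc.bot D)))).obj W
    have hle : W' ≤ (show Opens (Ym.obj (FibDesc.bot D)) from U) := fun r hr => by
      have e : ρ.app _ (inv (ρ.app (FibDesc.bot D)) r) = r :=
        ConcreteCategory.congr_hom (IsIso.inv_hom_id (ρ.app _)) r
      rw [← e]
      exact leOfHom w hr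
    refine ⟨W', homOfLE hle, ?_, hqW⟩
    have hW : (Opens.map (ρ.app (FibDesc.bot D))).obj W' ≤ W := fun r hr => by
      have e : inv (ρ.app (FibDesc.bot D)) (ρ.app _ r) = r :=
        ConcreteCategory.congr_hom (IsIso.hom_inv_id (ρ.app _)) r
      rw [← e]
      exact hr
    change S.arrows _
    convert! S.downward_closed hw (homOfLE hW) using 1⟩
  exact CategoryTheory.isCocontinuous_comp (K := tpTop (ZE Z₀) m) (G := (Opens.map (ρ.app (FibDesc.bot D)) : Opens (Ym.obj (FibDesc.bot D)) ⥤ Opens ((ZE Z₀).obj m))) (G' := ι (tp (ZE Z₀)) m) (tpTop Ym (FibDesc.bot D))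

/-- the slice spaces -/
noncomputable abbrev Z3 : Dᵒᵖ × Over m ⥤ TopCat.{u} := (𝟭 Dᵒᵖ).prod (Over.forget m) ⋙ ZW Z₀

/-- the column in the slice -/
noncomputable def ρ3 : colF Dᵒᵖ (Over.mk (𝟙 m)) ⋙ Z3 Z₀ m ⟶ FibDesc.toAug D ⋙ Ym where
  app x := (ρP Z₀ m ρ).app x
  naturality x y f := (ρP Z₀ m ρ).naturality f

theorem preservesInjective_col :
    (res (Mor (colF Dᵒᵖ m) (ρP Z₀ m ρ)) (tJ (FibDesc.toAug D ⋙ Ym)) (tJ (ZW Z₀))).PreservesInjectiveObjects := by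
  let p := Mor (colF Dᵒᵖ m) (ρP Z₀ m ρ)
  let F₁ := Mor (colF Dᵒᵖ (Over.mk (𝟙 m))) (ρ3 Z₀ m ρ)
  let F₂ := Mor ((𝟭 Dᵒᵖ).prod (Over.forget m)) (idT _ (ZW Z₀))
  let J₁ := tJ (FibDesc.toAug D ⋙ Ym)
  let J₂ := tJ (Z3 Z₀ m)
  let J₃ := tJ (ZW Z₀)
  haveI : RepresentablyFlat F₁ := Mor_flat _ _ fun s => ⟨s.1, (𝟙 s.1, Over.homMk s.2.hom (Category.comp_id _)), fun t => by
    refine ⟨fun k k' h => ?_, fun g => ⟨g.1, Prod.ext (Category.id_comp _) (Over.OverMorphism.ext ?_)⟩⟩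
    · simpa using (congrArg Prod.fst h :)
    · exact (Category.comp_id _).trans ((Over.w g.2).symm.trans (Category.comp_id _))⟩
  have h2 : HasMultiAdj F₂ := fun W => by
    refine ⟨ULift.{u} (W.base.2 ⟶ m), fun ψ => tobj (Z3 Z₀ m) (W.base.1, Over.mk ψ.down) W.fiber,
      fun ψ => tmk (𝟙 W.base) (fun q hq => by
        show (ZW Z₀).map (𝟙 W.base) q ∈ (show Opens ((ZW Z₀).obj W.base) from W.fiber)
        rw [(ZW Z₀).map_id]; exact hq), fun c => ⟨?_, fun f => ?_⟩⟩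
    · rintro ⟨⟨ψ⟩, g⟩ ⟨⟨ψ'⟩, g'⟩ h
      have hb : (𝟙 W.base.1 ≫ g.base.1, 𝟙 W.base.2 ≫ g.base.2.left) =
          (𝟙 W.base.1 ≫ g'.base.1, 𝟙 W.base.2 ≫ g'.base.2.left) := (congrArg CoGrothendieck.Hom.base h :)
      simp only [Category.id_comp, Prod.mk.injEq] at hb
      obtain rfl : ψ = ψ' := by
        have w1 := Over.w g.base.2
        have w2 := Over.w g'.base.2
        simp only [Over.mk_hom] at w1 w2
        rw [← w1, ← w2, hb.2]
      exact congrArg (Sigma.mk _) (total_hom_ext (Prod.ext hb.1 (Over.OverMorphism.ext hb.2)))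
    · refine ⟨⟨⟨f.base.2 ≫ c.base.2.hom⟩, tmk (f.base.1, Over.homMk f.base.2) ?_⟩, total_hom_ext ?_⟩
      · exact le_hom f
      · exact Prod.ext (Category.id_comp _) (Category.id_comp _)
  haveI := preservesInjective_res_of_multi F₂ J₂ J₃ h2
  haveI : (F₁ ⋙ F₂).IsContinuous J₁ J₃ := Functor.isContinuous_comp F₁ F₂ J₁ J₂ J₃
  let e : F₁ ⋙ F₂ ≅ p := NatIso.ofComponents (fun x => Iso.refl _) (fun {x y} f => total_hom_ext (by simp; rfl))
  let er : res F₂ J₂ J₃ ⋙ res F₁ J₁ J₂ ≅ res p J₁ J₃ := Functor.sheafPushforwardContinuousComp' e _ _ _ _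
  refine ⟨fun {I} hI => ?_⟩
  haveI : Injective ((res F₂ J₂ J₃).obj I) := (res F₂ J₂ J₃).injective_obj_of_injective hI
  haveI : (pb F₁ J₁ J₂).PreservesMonomorphisms := inferInstance
  exact Injective.of_iso (er.app I) ((pbAdj F₁ J₁ J₂).map_injective _ inferInstance)

theorem good_column (h : FibDesc.IsCohDescentTop Ym) (X : Sh (tJ (ZE Z₀))) :
    haveI := bF_isContinuous Z₀ m ρ
    IsIso ((res (bF Z₀ m ρ) (tpTop Ym (FibDesc.bot D)) (tJ (ZE Z₀))).map ((levelAdj Z₀).unit.app X)) ∧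
      ∀ q : ℕ, 0 < q → IsZero ((res (bF Z₀ m ρ) (tpTop Ym (FibDesc.bot D)) (tJ (ZE Z₀))).obj
        (((rk (iF Z₀) (tJ (ZW Z₀)) (tJ Z₀) ⋙ res (eF Z₀) (tJ (ZE Z₀)) (tJ Z₀)).rightDerived q).obj
          ((pb (eF Z₀) (tJ (ZE Z₀)) (tJ Z₀) ⋙ res (iF Z₀) (tJ (ZW Z₀)) (tJ Z₀)).obj X))) := by
  let JB := tJ (ZE Z₀)
  let JA := tJ Z₀
  let JP := tJ (ZW Z₀)
  let JB' := tpTop Ym (FibDesc.bot D)
  let JA' := FibDesc.totAug (FibDesc.topAug Ym) (FibDesc.topAugTop Ym)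
  let JP' := FibDesc.totPart (FibDesc.topAug Ym) (FibDesc.topAugTop Ym)
  let E := eF Z₀
  let E' := FibDesc.eps (FibDesc.topAug Ym)
  let i := iF Z₀
  let i' := FibDesc.incl (FibDesc.topAug Ym)
  let b : (FibDesc.topAug Ym).obj ⟨op (FibDesc.bot D)⟩ ⥤ TS (ZE Z₀) := bF Z₀ m ρ
  let a : ∫ᶜ (FibDesc.topAug Ym) ⥤ TS Z₀ := Mor (colF (WithInitial D)ᵒᵖ m) ρ
  let p : ∫ᶜ (FibDesc.part (FibDesc.topAug Ym)) ⥤ TS (ZW Z₀) := Mor (colF Dᵒᵖ m) (ρP Z₀ m ρ)
  haveI : b.IsContinuous JB' JB := bF_isContinuous Z₀ m ρ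
  haveI : b.IsCocontinuous JB' JB := bF_isCocontinuous Z₀ m ρ
  haveI : a.IsContinuous JA' JA := Mor_continuous _ _
  haveI : a.IsCocontinuous JA' JA := Mor_isCocontinuous _ _
  haveI : p.IsContinuous JP' JP := Mor_continuous _ _
  haveI : p.IsCocontinuous JP' JP := Mor_isCocontinuous _ _
  haveI : E'.IsContinuous JB' JA' := eps_continuous Ym
  haveI : i'.IsContinuous JP' JA' := incl_continuous Ym
  haveI : i'.IsCocontinuous JP' JA' := incl_cocontinuous Ym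
  let eτ : b ⋙ E ≅ E' ⋙ a :=
    NatIso.ofComponents (fun U => Iso.refl _) (fun {U V} f => total_hom_ext (Prod.ext (by simp; rfl) (by simp; rfl)))
  let eσ : p ⋙ i ≅ i' ⋙ a :=
    NatIso.ofComponents (fun U => Iso.refl _) (fun {U V} f => total_hom_ext (Prod.ext (by simp; rfl) (by simp; rfl)))
  let σI := sigmaIso JA JP JA' JP' i i' a p eσ
  let τI := tauIso JB JA JB' JA' E E' b a eτ
  have hsub : ∀ x : (WithInitial D)ᵒᵖ, Subsingleton (x ⟶ FibDesc.bot D) := FibDescSplit.subsingleton_bot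
  have fγ : ∀ U : TS (ZE Z₀), HasFac a b E E' eτ.symm U := fun U z f => by
    let ψ : m ⟶ U.base := f.base.2
    let O : Opens (Ym.obj (FibDesc.bot D)) :=
      (Opens.map (inv (ρ.app (FibDesc.bot D)))).obj
        ((Opens.map ((ZE Z₀).map ψ)).obj (show Opens ((ZE Z₀).obj U.base) from U.fiber))
    have hO : ∀ q' : Z₀.obj (z.base, m), ρ.app z.base q' ∈ (show Opens (Ym.obj z.base) from z.fiber) →
        Ym.map (toBot z.base) (ρ.app z.base q') ∈ O := fun q' hq' => by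
      have e : inv (ρ.app (FibDesc.bot D)) (Ym.map (toBot z.base) (ρ.app z.base q')) =
          Z₀.map ((toBot z.base, 𝟙 m) : (z.base, m) ⟶ (FibDesc.bot D, m)) q' := by
        have h1 : Ym.map (toBot z.base) (ρ.app z.base q') = ρ.app (FibDesc.bot D) _ :=
          (ConcreteCategory.congr_hom (ρ.naturality (toBot z.base)) q').symm
        rw [h1]
        exact ConcreteCategory.congr_hom (IsIso.hom_inv_id (ρ.app _)) _
      show (ZE Z₀).map ψ (inv (ρ.app (FibDesc.bot D)) (Ym.map (toBot z.base) (ρ.app z.base q'))) ∈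
        (show Opens ((ZE Z₀).obj U.base) from U.fiber)
      rw [e]
      have hf := le_hom f hq'
      have e2 : f.base = ((toBot z.base, 𝟙 m) : (z.base, m) ⟶ (FibDesc.bot D, m)) ≫ (𝟙 (FibDesc.bot D), ψ) :=
        Prod.ext ((hsub _).elim _ _) (Category.id_comp _).symm
      rw [e2] at hf
      erw [Z₀.map_comp] at hf
      exact hf
    have hz : (show Opens (Ym.obj z.base) from z.fiber) ≤ (Opens.map (Ym.map (toBot z.base))).obj O := fun q hq => by
      obtain ⟨q', rfl⟩ : ∃ q', ρ.app z.base q' = q :=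
        ⟨inv (ρ.app z.base) q, ConcreteCategory.congr_hom (IsIso.inv_hom_id (ρ.app z.base)) q⟩
      exact hO q' hq
    refine ⟨⟨O, tmk (toBot z.base) hz, tmk (x := b.obj O) ψ fun r hr => ?_,
      total_hom_ext (Prod.ext ((hsub _).elim _ _) ?_)⟩, fun F => ?_⟩
    · have e : inv (ρ.app (FibDesc.bot D)) (ρ.app _ r) = r :=
        ConcreteCategory.congr_hom (IsIso.hom_inv_id (ρ.app _)) r
      have h2 : inv (ρ.app (FibDesc.bot D)) (ρ.app _ r) ∈
          (Opens.map ((ZE Z₀).map ψ)).obj (show Opens ((ZE Z₀).obj U.base) from U.fiber) := hr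
      rw [e] at h2
      exact h2
    · show 𝟙 m ≫ 𝟙 m ≫ ψ = f.base.2
      rw [Category.id_comp, Category.id_comp]
    · obtain ⟨W, hF, gF, eF'⟩ := F
      have hψ : gF.base = ψ := by
        have h2 : 𝟙 m ≫ 𝟙 m ≫ gF.base = f.base.2 := (congrArg (fun t => t.base.2) eF' :)
        rwa [Category.id_comp, Category.id_comp] at h2
      have hle : (show Opens (Ym.obj (FibDesc.bot D)) from W) ≤ O := fun r hr => by
        have h1 := le_hom gF (show inv (ρ.app (FibDesc.bot D)) r ∈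
          (Opens.map (ρ.app (FibDesc.bot D))).obj (show Opens (Ym.obj (FibDesc.bot D)) from W) by
            show ρ.app (FibDesc.bot D) (inv (ρ.app (FibDesc.bot D)) r) ∈ (show Opens (Ym.obj (FibDesc.bot D)) from W)
            rw [show ρ.app _ (inv (ρ.app (FibDesc.bot D)) r) = r from
              ConcreteCategory.congr_hom (IsIso.inv_hom_id (ρ.app _)) r]
            exact hr)
        rw [hψ] at h1
        exact h1
      refine ⟨⟨W, hF, gF, eF'⟩, FibDescSplit.augLE Ym hle, 𝟙 _, total_hom_ext ((hsub _).elim _ _), total_hom_ext ?_,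
        total_hom_ext ((hsub _).elim _ _), total_hom_ext ?_⟩
      · show 𝟙 m ≫ ψ = gF.base
        rw [Category.id_comp, hψ]
      · show 𝟙 m ≫ gF.base = gF.base
        rw [Category.id_comp]
  have fρ : ∀ U, HasFac i i' a p eσ (E'.obj U) := fun U z f => by
    let ψ : z.base.2 ⟶ m := f.base.2
    let x' := (FibDesc.toAug D).obj z.base.1
    let h₁ : (x', z.base.2) ⟶ (x', m) := (𝟙 x', ψ)
    let U₀ : Opens (Ym.obj x') := (Opens.map (Ym.map (toBot x'))).obj (show Opens (Ym.obj (FibDesc.bot D)) from U)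
    have hU₀ : ∀ q, q ∈ (show Opens (Z₀.obj (x', z.base.2)) from z.fiber) → ρ.app x' (Z₀.map h₁ q) ∈ U₀ :=
      fun q hq => by
        show Ym.map (toBot x') (ρ.app x' (Z₀.map h₁ q)) ∈ (show Opens (Ym.obj (FibDesc.bot D)) from U)
        have e1 : Ym.map (toBot x') (ρ.app x' (Z₀.map h₁ q)) =
            ρ.app (FibDesc.bot D) (Z₀.map ((toBot x', 𝟙 m) : (x', m) ⟶ (FibDesc.bot D, m)) (Z₀.map h₁ q)) :=
          (ConcreteCategory.congr_hom (ρ.naturality (toBot x')) _).symm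
        rw [e1]
        have hf := le_hom f hq
        have e2 : f.base = h₁ ≫ ((toBot x', 𝟙 m) : (x', m) ⟶ (FibDesc.bot D, m)) :=
          Prod.ext ((hsub _).elim _ _) (Category.comp_id _).symm
        rw [e2] at hf
        erw [Z₀.map_comp] at hf
        exact hf
    refine ⟨⟨tobj (FibDesc.toAug D ⋙ Ym) z.base.1 U₀, tmk ((𝟙 z.base.1, ψ) : (z.base.1, z.base.2) ⟶ (z.base.1, m))
      fun q hq => ?_, tmk (toBot x') le_rfl, total_hom_ext (Prod.ext ((hsub _).elim _ _) ?_)⟩, fun F => ?_⟩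
    · show ρ.app x' (Z₀.map ((FibDesc.toAug D).map (𝟙 z.base.1), ψ) q) ∈ U₀
      rw [(FibDesc.toAug D).map_id]
      exact hU₀ q hq
    · show ψ ≫ 𝟙 m ≫ 𝟙 m = f.base.2
      rw [Category.comp_id, Category.comp_id]
    · obtain ⟨w, hF, gF, eF'⟩ := F
      have hψ : hF.base.2 = ψ := by
        have h2 : hF.base.2 ≫ 𝟙 m ≫ 𝟙 m = f.base.2 := (congrArg (fun t => t.base.2) eF' :)
        erw [Category.comp_id, Category.comp_id] at h2
        exact h2
      let h0 : z.base.1 ⟶ w.base := hF.base.1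
      let U₁ : Opens (Ym.obj x') := U₀ ⊓ (Opens.map (Ym.map ((FibDesc.toAug D).map h0))).obj
        (show Opens (Ym.obj ((FibDesc.toAug D).obj w.base)) from w.fiber)
      have hU₁ : ∀ q, q ∈ (show Opens (Z₀.obj (x', z.base.2)) from z.fiber) → ρ.app x' (Z₀.map h₁ q) ∈ U₁ :=
        fun q hq => ⟨hU₀ q hq, by
          show Ym.map ((FibDesc.toAug D).map h0) (ρ.app x' (Z₀.map h₁ q)) ∈
            (show Opens (Ym.obj ((FibDesc.toAug D).obj w.base)) from w.fiber)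
          have e1 : Ym.map ((FibDesc.toAug D).map h0) (ρ.app x' (Z₀.map h₁ q)) = ρ.app _
              (Z₀.map (((FibDesc.toAug D).map h0, 𝟙 m) : (x', m) ⟶ ((FibDesc.toAug D).obj w.base, m)) (Z₀.map h₁ q)) :=
            (ConcreteCategory.congr_hom (ρ.naturality ((FibDesc.toAug D).map h0)) _).symm
          rw [e1]
          have hh := le_hom hF hq
          have e2 : κP.map hF.base =
              h₁ ≫ (((FibDesc.toAug D).map h0, 𝟙 m) : (x', m) ⟶ ((FibDesc.toAug D).obj w.base, m)) :=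
            Prod.ext (Category.id_comp _).symm (hψ.trans (Category.comp_id _).symm)
          have hh' : Z₀.map (κP.map hF.base) q ∈ (Opens.map (ρ.app ((FibDesc.toAug D).obj w.base))).obj
              (show Opens (Ym.obj ((FibDesc.toAug D).obj w.base)) from w.fiber) := hh
          rw [e2] at hh'
          erw [Z₀.map_comp] at hh'
          exact hh'⟩
      refine ⟨⟨tobj (FibDesc.toAug D ⋙ Ym) z.base.1 U₁,
          tmk ((𝟙 z.base.1, ψ) : (z.base.1, z.base.2) ⟶ (z.base.1, m)) (fun q hq => ?_),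
          tmk (toBot x') inf_le_left, total_hom_ext (Prod.ext ((hsub _).elim _ _) ?_)⟩,
        tmk (𝟙 z.base.1) (fun r hr => ?_), tmk h0 inf_le_right, total_hom_ext ?_, ?_, total_hom_ext ?_, ?_⟩
      · show ρ.app x' (Z₀.map ((FibDesc.toAug D).map (𝟙 z.base.1), ψ) q) ∈ U₁
        rw [(FibDesc.toAug D).map_id]
        exact hU₁ q hq
      · show ψ ≫ 𝟙 m ≫ 𝟙 m = f.base.2
        rw [Category.comp_id, Category.comp_id]
      · show Ym.map ((FibDesc.toAug D).map (𝟙 z.base.1)) r ∈ U₀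
        rw [(FibDesc.toAug D).map_id, Ym.map_id]
        exact hr.1
      · exact Prod.ext (Category.id_comp _) (Category.comp_id _)
      · exact total_hom_ext ((hsub _).elim _ _)
      · exact Prod.ext (Category.id_comp _) ((Category.comp_id _).trans hψ.symm)
      · exact total_hom_ext ((hsub _).elim _ _)
  have hγ : ∀ Y : Sh JB, IsIso (gam (pbAdj E JB JA) (pbAdj E' JB' JA') (res b JB' JB) (res a JA' JA) τI Y) :=
    isIso_gam_of_hasFac JB JA JB' JA' E E' b a eτ fγ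
  have hρ : ∀ M : Sh JP, IsIso ((res E' JB' JA').map
      (rho (rkAdj i JP JA) (rkAdj i' JP' JA') (res a JA' JA) (res p JP' JP) σI M)) := fun M => by
    haveI : ∀ U, IsIso (((sheafToPresheaf JB' AddCommGrpCat.{u}).map ((res E' JB' JA').map
        (rho (rkAdj i JP JA) (rkAdj i' JP' JA') (res a JA' JA) (res p JP' JP) σI M))).app U) := fun U =>
      isIso_rho_app_of_hasFac JA JP JA' JP' i i' a p eσ M (E'.obj U.unop) (fρ U.unop)
    haveI := NatIso.isIso_of_isIso_app ((sheafToPresheaf JB' AddCommGrpCat.{u}).map ((res E' JB' JA').map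
      (rho (rkAdj i JP JA) (rkAdj i' JP' JA') (res a JA' JA) (res p JP' JP) σI M)))
    exact isIso_of_reflects_iso _ (sheafToPresheaf JB' AddCommGrpCat.{u})
  let β := pullIso (pbAdj E JB JA) (pbAdj E' JB' JA') (res b JB' JB) (res a JA' JA) (res p JP' JP) σI τI hγ X
  let ePush := pushIso (rkAdj i JP JA) (rkAdj i' JP' JA') (res b JB' JB) (res a JA' JA) (res p JP' JP) σI τI hρ
  haveI : (res p JP' JP).PreservesInjectiveObjects := preservesInjective_col Z₀ m ρ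
  have hg := (isCohDescentTop_iff_good Ym).1 h ((res b JB' JB).obj X)
  refine ⟨?_, fun q hq => ?_⟩
  · haveI : IsIso (((pbAdj E' JB' JA').comp (rkAdj i' JP' JA')).unit.app ((res b JB' JB).obj X)) := hg.1
    exact isIso_map_unit (pbAdj E JB JA) (rkAdj i JP JA) (pbAdj E' JB' JA') (rkAdj i' JP' JA')
      (res b JB' JB) (res a JA' JA) (res p JP' JP) σI τI hρ hγ X
  · obtain ⟨e⟩ := nonempty_rightDerived_iso _ (rk i' JP' JA' ⋙ res E' JB' JA') (res p JP' JP) (res b JB' JB)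
      ePush q ((pb E JB JA ⋙ res i JP JA).obj X)
    exact (hg.2 q hq).of_iso
      (e ≪≫ ((rk i' JP' JA' ⋙ res E' JB' JA').rightDerived q).mapIso β.symm)

end Level

/-- levelwise descent gives full faithfulness of the family -/
theorem FF_levels (Ym : ℰ → ((WithInitial D)ᵒᵖ ⥤ TopCat.{u}))
    (ρ : ∀ m, colF (WithInitial D)ᵒᵖ m ⋙ Z₀ ⟶ Ym m) [∀ m x, IsIso ((ρ m).app x)]
    (h : ∀ m, FibDesc.IsCohDescentTop (Ym m)) :
    FF (pb (eF Z₀) (tJ (ZE Z₀)) (tJ Z₀) ⋙ res (iF Z₀) (tJ (ZW Z₀)) (tJ Z₀)) := by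
  haveI : ∀ m, (bF Z₀ m (ρ m)).IsContinuous (tpTop (Ym m) (FibDesc.bot D)) (tJ (ZE Z₀)) := fun m =>
    bF_isContinuous Z₀ m (ρ m)
  have iso_of : ∀ {F G : Sh (tJ (ZE Z₀))} (φ : F ⟶ G), (∀ m, IsIso ((res (bF Z₀ m (ρ m))
      (tpTop (Ym m) (FibDesc.bot D)) (tJ (ZE Z₀))).map φ)) → IsIso φ := by
    intro F G φ hφ
    haveI : ∀ c, IsIso (((sheafToPresheaf (tJ (ZE Z₀)) AddCommGrpCat.{u}).map φ).app c) := by
      rintro ⟨⟨m, V⟩⟩
      let ρb := (ρ m).app (FibDesc.bot D)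
      let O : Opens ((Ym m).obj (FibDesc.bot D)) :=
        (Opens.map (inv ρb)).obj (show Opens ((ZE Z₀).obj m) from V)
      have e : (bF Z₀ m (ρ m)).obj O = tobj (ZE Z₀) m V := by
        show tobj (ZE Z₀) m ((Opens.map ρb).obj O) = _
        congr 1
        ext q
        show inv ρb (ρb q) ∈ (show Opens ((ZE Z₀).obj m) from V) ↔ _
        rw [show inv ρb (ρb q) = q from ConcreteCategory.congr_hom (IsIso.hom_inv_id ρb) q]
        rfl
      haveI := hφ m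
      haveI h1 : IsIso (((sheafToPresheaf _ AddCommGrpCat.{u}).map ((res (bF Z₀ m (ρ m))
        (tpTop (Ym m) (FibDesc.bot D)) (tJ (ZE Z₀))).map φ)).app (op O)) := inferInstance
      have h2 : IsIso (φ.hom.app (op ((bF Z₀ m (ρ m)).obj O))) := h1
      rw [e] at h2
      exact h2
    haveI := NatIso.isIso_of_isIso_app ((sheafToPresheaf (tJ (ZE Z₀)) AddCommGrpCat.{u}).map φ)
    exact isIso_of_reflects_iso _ (sheafToPresheaf (tJ (ZE Z₀)) AddCommGrpCat.{u})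
  refine FF_of_good (levelAdj Z₀) fun X => ⟨iso_of _ fun m => (good_column Z₀ m (ρ m) (h m) X).1, fun q hq => ?_⟩
  refine (IsZero.iff_id_eq_zero _).2 ?_
  let N := ((rk (iF Z₀) (tJ (ZW Z₀)) (tJ Z₀) ⋙ res (eF Z₀) (tJ (ZE Z₀)) (tJ Z₀)).rightDerived q).obj
    ((pb (eF Z₀) (tJ (ZE Z₀)) (tJ Z₀) ⋙ res (iF Z₀) (tJ (ZW Z₀)) (tJ Z₀)).obj X)
  haveI : IsIso (0 : N ⟶ N) := iso_of _ fun m => by
    have hz := (good_column Z₀ m (ρ m) (h m) X).2 q hq
    exact ⟨0, hz.eq_of_src _ _, hz.eq_of_src _ _⟩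
  exact (isIsoZeroSelfEquiv N).toFun inferInstance

end Groth.Agent.FibDescLoc
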