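import Mathlib

/-!
# Restricting an adjunction `pull ⊣ push` made of two steps
-/

set_option autoImplicit false
set_option linter.style.haveILetI false
set_option linter.unusedSectionVars false

universe v u

open CategoryTheory Limits

namespace Groth.Agent.FibDescLoc

variable {SB SA SP SB' SA' SP' : Type u} [Category.{v} SB] [Category.{v} SA] [Category.{v} SP]
  [Category.{v} SB'] [Category.{v} SA'] [Category.{v} SP']
  {pE : SB ⥤ SA} {rE : SA ⥤ SB} (aE : pE ⊣ rE) {rI : SA ⥤ SP} {kI : SP ⥤ SA} (aI : rI ⊣ kI)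
  {pE' : SB' ⥤ SA'} {rE' : SA' ⥤ SB'} (aE' : pE' ⊣ rE') {rI' : SA' ⥤ SP'} {kI' : SP' ⥤ SA'} (aI' : rI' ⊣ kI')
  (b : SB ⥤ SB') (a : SA ⥤ SA') (p : SP ⥤ SP')
  (σ : rI ⋙ p ≅ a ⋙ rI') (τ : rE ⋙ b ≅ a ⋙ rE')

/-- the comparison of extensions -/
noncomputable def gam (X : SB) : pE'.obj (b.obj X) ⟶ a.obj (pE.obj X) :=
  (aE'.homEquiv _ _).symm (b.map (aE.unit.app X) ≫ τ.hom.app (pE.obj X))

/-- the comparison of right Kan extensions -/
noncomputable def rho (M : SP) : a.obj (kI.obj M) ⟶ kI'.obj (p.obj M) :=
  aI'.homEquiv _ _ (σ.inv.app (kI.obj M) ≫ p.map (aI.counit.app M))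

theorem gam_spec (X : SB) :
    aE'.unit.app (b.obj X) ≫ rE'.map (gam aE aE' b a τ X) = b.map (aE.unit.app X) ≫ τ.hom.app (pE.obj X) := by
  exact (Adjunction.homEquiv_unit (adj := aE') _ _ _).symm.trans (Equiv.apply_symm_apply (aE'.homEquiv _ _) _)

theorem map_unit_rho (N : SA) :
    a.map (aI.unit.app N) ≫ rho aI aI' a p σ (rI.obj N) = aI'.unit.app (a.obj N) ≫ kI'.map (σ.inv.app N) := by
  rw [rho, Adjunction.homEquiv_unit]
  have h1 := aI'.unit.naturality (a.map (aI.unit.app N))
  simp only [Functor.id_map, Functor.comp_map] at h1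
  rw [reassoc_of% h1, ← Functor.map_comp]
  have h2 := σ.inv.naturality (aI.unit.app N)
  simp only [Functor.comp_map] at h2
  simp only [Functor.comp_obj, Functor.id_obj] at h2 ⊢
  rw [reassoc_of% h2, ← Functor.map_comp p, aI.left_triangle_components, p.map_id, Category.comp_id]

theorem rho_naturality {M M' : SP} (f : M ⟶ M') :
    a.map (kI.map f) ≫ rho aI aI' a p σ M' = rho aI aI' a p σ M ≫ kI'.map (p.map f) := by
  rw [rho, rho, ← Adjunction.homEquiv_naturality_left, ← Adjunction.homEquiv_naturality_right]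
  congr 1
  have h := σ.inv.naturality (kI.map f)
  simp only [Functor.comp_map] at h
  rw [reassoc_of% h, Category.assoc, ← Functor.map_comp p, ← Functor.map_comp p]
  exact congrArg (fun k => σ.inv.app (kI.obj M) ≫ p.map k) (aI.counit.naturality f)

variable (hρ : ∀ M : SP, IsIso (rE'.map (rho aI aI' a p σ M))) (hγ : ∀ X : SB, IsIso (gam aE aE' b a τ X))

/-- restriction commutes with the total direct image -/
noncomputable def pushIso : (kI ⋙ rE) ⋙ b ≅ p ⋙ kI' ⋙ rE' :=
  NatIso.ofComponents (fun M => τ.app (kI.obj M) ≪≫ @asIso _ _ _ _ _ (hρ M)) (fun {M M'} f => by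
    show b.map (rE.map (kI.map f)) ≫ τ.hom.app (kI.obj M') ≫ rE'.map (rho aI aI' a p σ M') =
      (τ.hom.app (kI.obj M) ≫ rE'.map (rho aI aI' a p σ M)) ≫ rE'.map (kI'.map (p.map f))
    have h := τ.hom.naturality (kI.map f)
    simp only [Functor.comp_map] at h
    simp only [Functor.comp_obj] at h ⊢
    rw [reassoc_of% h, ← Functor.map_comp, rho_naturality, Functor.map_comp, Category.assoc])

/-- restriction commutes with the total inverse image -/
noncomputable def pullIso (X : SB) : rI'.obj (pE'.obj (b.obj X)) ≅ p.obj (rI.obj (pE.obj X)) :=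
  rI'.mapIso (@asIso _ _ _ _ _ (hγ X)) ≪≫ (σ.app (pE.obj X)).symm

include hγ in
theorem map_unit (X : SB) :
    b.map ((aE.comp aI).unit.app X) ≫ (pushIso aI aI' b a p σ τ hρ).hom.app (rI.obj (pE.obj X)) =
      (aE'.comp aI').unit.app (b.obj X) ≫
        rE'.map (kI'.map (pullIso aE aE' b a p σ τ hγ X).hom) := by
  simp only [Adjunction.comp_unit_app, Functor.map_comp, pushIso, pullIso, NatIso.ofComponents_hom_app,
    Iso.trans_hom, Iso.app_hom, asIso_hom, Functor.mapIso_hom, Iso.symm_hom, Iso.app_inv, Functor.comp_obj,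
    Category.assoc]
  have h := τ.hom.naturality (aI.unit.app (pE.obj X))
  simp only [Functor.comp_map] at h
  simp only [Functor.comp_obj, Functor.id_obj] at h ⊢
  rw [reassoc_of% h, ← Functor.map_comp, map_unit_rho, ← reassoc_of% gam_spec aE aE' b a τ X,
    ← Functor.map_comp, ← Functor.map_comp, ← Functor.map_comp]
  congr 1
  have h2 := aI'.unit.naturality (gam aE aE' b a τ X)
  simp only [Functor.id_map, Functor.comp_map] at h2
  simp only [Functor.comp_obj, Functor.id_obj, Category.assoc] at h2 ⊢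
  rw [← reassoc_of% h2]

include hρ hγ in
theorem isIso_map_unit (X : SB) [IsIso ((aE'.comp aI').unit.app (b.obj X))] :
    IsIso (b.map ((aE.comp aI).unit.app X)) := by
  have h := map_unit aE aI aE' aI' b a p σ τ hρ hγ X
  exact IsIso.of_isIso_fac_right h

end Groth.Agent.FibDescLoc

namespace Groth.Agent.FibDescLoc

variable {P A P' A' : Type u} [Category.{v} P] [Abelian P] [EnoughInjectives P] [Category.{v} A] [Abelian A]
  [Category.{v} P'] [Abelian P'] [EnoughInjectives P'] [Category.{v} A'] [Abelian A']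
  (R : P ⥤ A) [R.Additive] (R' : P' ⥤ A') [R'.Additive] (p : P ⥤ P') [p.Additive]
  [PreservesFiniteLimits p] [PreservesFiniteColimits p] [p.PreservesInjectiveObjects]
  (b : A ⥤ A') [b.Additive] [PreservesFiniteLimits b] [PreservesFiniteColimits b]

/-- an exact functor preserving injectives maps injective resolutions to injective resolutions -/
noncomputable def mapRes {N : P} (I : InjectiveResolution N) : InjectiveResolution (p.obj N) where
  cocomplex := (p.mapHomologicalComplex _).obj I.cocomplex
  injective n := p.injective_obj_of_injective (I.injective n)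
  ι := (HomologicalComplex.singleMapHomologicalComplex p (ComplexShape.up ℕ) 0).inv.app N ≫
    (p.mapHomologicalComplex _).map I.ι
  quasiIso := by infer_instance

/-- higher direct images commute with restriction -/
theorem nonempty_rightDerived_iso (e : R ⋙ b ≅ p ⋙ R') (q : ℕ) (N : P) :
    Nonempty (b.obj ((R.rightDerived q).obj N) ≅ (R'.rightDerived q).obj (p.obj N)) := by
  let I := injectiveResolution N
  let K := (R.mapHomologicalComplex _).obj I.cocomplex
  let K' := (R'.mapHomologicalComplex _).obj (mapRes p I).cocomplex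
  let eK : (b.mapHomologicalComplex _).obj K ≅ K' :=
    HomologicalComplex.Hom.isoOfComponents (fun n => e.app (I.cocomplex.X n))
      (fun i j _ => (e.hom.naturality (I.cocomplex.d i j)).symm)
  exact ⟨b.mapIso (I.isoRightDerivedObj R q) ≪≫ ((K.sc q).mapHomologyIso b).symm ≪≫
    (HomologicalComplex.homologyFunctor _ _ q).mapIso eK ≪≫ ((mapRes p I).isoRightDerivedObj R' q).symm⟩

end Groth.Agent.FibDescLoc
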