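import Groth.Agent.FibDescLoc.Res
import Groth.Agent.FibDescSplit.Abstract
import Mathlib

/-!
# The comparison maps on sites
-/

set_option backward.isDefEq.respectTransparency false
set_option backward.isDefEq.respectTransparency.types false
set_option linter.style.haveILetI false
set_option linter.unusedSectionVars false
set_option autoImplicit false
set_option synthInstance.maxHeartbeats 400000

universe u

open CategoryTheory Limits Opposite Functor

namespace Groth.Agent.FibDescLoc

open FibDescSplit (Sh res pb rk pbAdj rkAdj)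

/-! ### extension by zero preserves monomorphisms -/

section Mono

variable {C D : Type u} [SmallCategory C] [SmallCategory D] (G : C ⥤ D)
  (J : GrothendieckTopology C) (K : GrothendieckTopology D)

/-- every object has a universal arrow to `G`, unless it has none -/
def HasPartialAdj : Prop :=
  ∀ W : D, (∀ c : C, IsEmpty (W ⟶ G.obj c)) ∨
    ∃ (c₀ : C) (η : W ⟶ G.obj c₀), ∀ c : C, Function.Bijective fun g : c₀ ⟶ c => η ≫ G.map g

theorem mono_of_colimit {J₀ : Type*} [Category J₀] [IsEmpty J₀] {F : J₀ ⥤ AddCommGrpCat.{u}} {c : Cocone F}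
    (hc : IsColimit c) {Z : AddCommGrpCat.{u}} (f : c.pt ⟶ Z) : Mono f :=
  ⟨fun g h _ => by
    have e : 𝟙 c.pt = 0 := hc.hom_ext fun j => isEmptyElim j
    rw [← Category.comp_id g, ← Category.comp_id h, e, comp_zero, comp_zero]⟩

theorem mono_lan_map (hG : HasPartialAdj G) {P Q : Cᵒᵖ ⥤ AddCommGrpCat.{u}} (φ : P ⟶ Q) [Mono φ] :
    Mono (G.op.lan.map φ) := by
  haveI : ∀ W, Mono ((G.op.lan.map φ).app W) := fun W => by
    have hP := G.op.isPointwiseLeftKanExtensionLeftKanExtensionUnit P W
    have hQ := G.op.isPointwiseLeftKanExtensionLeftKanExtensionUnit Q W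
    rcases hG W.unop with h | ⟨c₀, η, h⟩
    · haveI : IsEmpty (CostructuredArrow G.op W) := ⟨fun f => (h f.left.unop).false f.hom.unop⟩
      exact mono_of_colimit hP _
    · let f₀ : CostructuredArrow G.op W := CostructuredArrow.mk (Y := op c₀) η.op
      have ht : IsTerminal f₀ := IsTerminal.ofUniqueHom
        (fun g => CostructuredArrow.homMk (Equiv.ofBijective _ (h g.left.unop) |>.symm g.hom.unop).op (by
          apply Quiver.Hom.unop_inj
          exact (Equiv.ofBijective _ (h g.left.unop)).apply_symm_apply g.hom.unop))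
        (fun g k => by
          apply CostructuredArrow.hom_ext
          apply Quiver.Hom.unop_inj
          apply (h g.left.unop).1
          refine Eq.trans ?_ ((Equiv.ofBijective _ (h g.left.unop)).apply_symm_apply g.hom.unop).symm
          exact congrArg Quiver.Hom.unop (CostructuredArrow.w k))
      have hιP := IsColimit.isIso_ι_app_of_isTerminal hP f₀ ht
      have hιQ := IsColimit.isIso_ι_app_of_isTerminal hQ f₀ ht
      have key : φ.app (op c₀) ≫ ((LeftExtension.mk _ (G.op.lanUnit.app Q)).coconeAt W).ι.app f₀ =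
          ((LeftExtension.mk _ (G.op.lanUnit.app P)).coconeAt W).ι.app f₀ ≫ (G.op.lan.map φ).app W := by
        have h1 := congrArg (fun t => t.app (op c₀)) (G.op.lanUnit.naturality φ)
        show φ.app (op c₀) ≫ (G.op.lanUnit.app Q).app (op c₀) ≫ (G.op.lan.obj Q).map η.op =
          ((G.op.lanUnit.app P).app (op c₀) ≫ (G.op.lan.obj P).map η.op) ≫ (G.op.lan.map φ).app W
        rw [Category.assoc, (G.op.lan.map φ).naturality]
        exact (reassoc_of% h1) _
      haveI : IsIso (((LeftExtension.mk _ (G.op.lanUnit.app P)).coconeAt W).ι.app f₀) := hιP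
      haveI : IsIso (((LeftExtension.mk _ (G.op.lanUnit.app Q)).coconeAt W).ι.app f₀) := hιQ
      haveI : Mono (((LeftExtension.mk _ (G.op.lanUnit.app P)).coconeAt W).ι.app f₀ ≫ (G.op.lan.map φ).app W) := by
        rw [← key]; exact mono_comp _ _
      have e : (G.op.lan.map φ).app W = inv (((LeftExtension.mk _ (G.op.lanUnit.app P)).coconeAt W).ι.app f₀) ≫
          (((LeftExtension.mk _ (G.op.lanUnit.app P)).coconeAt W).ι.app f₀ ≫ (G.op.lan.map φ).app W) := by simp
      rw [e]
      exact mono_comp _ _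
  exact NatTrans.mono_of_mono_app _

theorem preservesInjective_res [G.IsContinuous J K] (hG : HasPartialAdj G) :
    (res G J K).PreservesInjectiveObjects := by
  refine ⟨fun {I} hI => ?_⟩
  haveI : ∀ {X Y : Sh J} (f : X ⟶ Y) [Mono f], Mono ((pb G J K).map f) := fun {X Y} f _ => by
    haveI : Mono ((sheafToPresheaf J AddCommGrpCat.{u}).map f) := inferInstance
    haveI := mono_lan_map G hG ((sheafToPresheaf J AddCommGrpCat.{u}).map f)
    haveI : Mono ((presheafToSheaf K AddCommGrpCat.{u}).map (G.op.lan.map ((sheafToPresheaf J AddCommGrpCat.{u}).map f))) :=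
      inferInstance
    let e := sheafPullbackConstruction.sheafPullbackIso G AddCommGrpCat.{u} J K
    have : Mono ((sheafPullbackConstruction.sheafPullback G AddCommGrpCat.{u} J K).map f) := this
    have h2 : (pb G J K).map f = e.hom.app X ≫ (sheafPullbackConstruction.sheafPullback G AddCommGrpCat.{u} J K).map f ≫ e.inv.app Y := by
      rw [← NatTrans.naturality_assoc]; simp
    rw [h2]
    exact mono_comp _ _
  haveI : (pb G J K).PreservesMonomorphisms := ⟨fun f _ => this f⟩
  exact (pbAdj G J K).map_injective I hI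

end Mono

/-! ### the comparison maps -/

variable {B A P B' A' P' : Type u} [SmallCategory B] [SmallCategory A] [SmallCategory P]
  [SmallCategory B'] [SmallCategory A'] [SmallCategory P']
  (JB : GrothendieckTopology B) (JA : GrothendieckTopology A) (JP : GrothendieckTopology P)
  (JB' : GrothendieckTopology B') (JA' : GrothendieckTopology A') (JP' : GrothendieckTopology P')
  (E : B ⥤ A) (i : P ⥤ A) (E' : B' ⥤ A') (i' : P' ⥤ A')
  (b : B' ⥤ B) (a : A' ⥤ A) (p : P' ⥤ P)
  [E.IsContinuous JB JA] [i.IsContinuous JP JA] [i.IsCocontinuous JP JA]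
  [E'.IsContinuous JB' JA'] [i'.IsContinuous JP' JA'] [i'.IsCocontinuous JP' JA']
  [b.IsContinuous JB' JB] [a.IsContinuous JA' JA] [p.IsContinuous JP' JP]

/-- restrictions along a commutative square of functors -/
noncomputable def sqIso {C₁ C₂ C₃ C₄ : Type u} [SmallCategory C₁] [SmallCategory C₂] [SmallCategory C₃] [SmallCategory C₄]
    (J₁ : GrothendieckTopology C₁) (J₂ : GrothendieckTopology C₂) (J₃ : GrothendieckTopology C₃) (J₄ : GrothendieckTopology C₄)
    (F : C₁ ⥤ C₂) (G : C₂ ⥤ C₄) (F' : C₁ ⥤ C₃) (G' : C₃ ⥤ C₄)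
    [F.IsContinuous J₁ J₂] [G.IsContinuous J₂ J₄] [F'.IsContinuous J₁ J₃] [G'.IsContinuous J₃ J₄]
    (e : F ⋙ G ≅ F' ⋙ G') : res G J₂ J₄ ⋙ res F J₁ J₂ ≅ res G' J₃ J₄ ⋙ res F' J₁ J₃ :=
  NatIso.ofComponents (fun N => (fullyFaithfulSheafToPresheaf _ _).preimageIso
      (NatIso.ofComponents (fun x => N.obj.mapIso (e.app x.unop).symm.op) (fun {x y} f => by
        show N.obj.map _ ≫ N.obj.map _ = N.obj.map _ ≫ N.obj.map _
        rw [← N.obj.map_comp, ← N.obj.map_comp]
        congr 1
        exact congrArg Quiver.Hom.op (e.inv.naturality f.unop).symm)))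
    (fun {N N'} g => by
      apply ObjectProperty.hom_ext
      ext x
      exact ConcreteCategory.congr_hom (g.hom.naturality (e.inv.app x.unop).op).symm _)

theorem sqIso_hom_app {C₁ C₂ C₃ C₄ : Type u} [SmallCategory C₁] [SmallCategory C₂] [SmallCategory C₃] [SmallCategory C₄]
    (J₁ : GrothendieckTopology C₁) (J₂ : GrothendieckTopology C₂) (J₃ : GrothendieckTopology C₃) (J₄ : GrothendieckTopology C₄)
    (F : C₁ ⥤ C₂) (G : C₂ ⥤ C₄) (F' : C₁ ⥤ C₃) (G' : C₃ ⥤ C₄)
    [F.IsContinuous J₁ J₂] [G.IsContinuous J₂ J₄] [F'.IsContinuous J₁ J₃] [G'.IsContinuous J₃ J₄]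
    (e : F ⋙ G ≅ F' ⋙ G') (N : Sh J₄) (x : C₁ᵒᵖ) :
    ((sqIso J₁ J₂ J₃ J₄ F G F' G' e).hom.app N).hom.app x = N.obj.map (e.inv.app x.unop).op := rfl

theorem sqIso_inv_app {C₁ C₂ C₃ C₄ : Type u} [SmallCategory C₁] [SmallCategory C₂] [SmallCategory C₃] [SmallCategory C₄]
    (J₁ : GrothendieckTopology C₁) (J₂ : GrothendieckTopology C₂) (J₃ : GrothendieckTopology C₃) (J₄ : GrothendieckTopology C₄)
    (F : C₁ ⥤ C₂) (G : C₂ ⥤ C₄) (F' : C₁ ⥤ C₃) (G' : C₃ ⥤ C₄)
    [F.IsContinuous J₁ J₂] [G.IsContinuous J₂ J₄] [F'.IsContinuous J₁ J₃] [G'.IsContinuous J₃ J₄]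
    (e : F ⋙ G ≅ F' ⋙ G') (N : Sh J₄) (x : C₁ᵒᵖ) :
    ((sqIso J₁ J₂ J₃ J₄ F G F' G' e).inv.app N).hom.app x = N.obj.map (e.hom.app x.unop).op := rfl

variable (eτ : b ⋙ E ≅ E' ⋙ a) (eσ : p ⋙ i ≅ i' ⋙ a)

/-- the base square -/
noncomputable abbrev tauIso : res E JB JA ⋙ res b JB' JB ≅ res a JA' JA ⋙ res E' JB' JA' :=
  sqIso JB' JB JA' JA b E E' a eτ

/-- the part square -/
noncomputable abbrev sigmaIso : res i JP JA ⋙ res p JP' JP ≅ res a JA' JA ⋙ res i' JP' JA' :=
  sqIso JP' JP JA' JA p i i' a eσ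

theorem isIso_gam (aR : A ⥤ A') (bR : B ⥤ B') [aR.IsContinuous JA JA'] [bR.IsContinuous JB JB']
    (adjA : a ⊣ aR) (adjB : b ⊣ bR) (er : E ⋙ aR ≅ bR ⋙ E') (hthin : ∀ (U : B') (x : A'), Subsingleton (x ⟶ E'.obj U))
    (X : Sh JB) :
    IsIso (gam (pbAdj E JB JA) (pbAdj E' JB' JA') (res b JB' JB) (res a JA' JA) (tauIso JB JA JB' JA' E E' b a eτ) X) := by
  let aE := pbAdj E JB JA
  let aE' := pbAdj E' JB' JA'
  let bb := res b JB' JB
  let aa := res a JA' JA
  let τ := tauIso JB JA JB' JA' E E' b a eτ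
  let SA := Adjunction.sheafPushforwardContinuous (E := AddCommGrpCat.{u}) adjA JA' JA
  let SB := Adjunction.sheafPushforwardContinuous (E := AddCommGrpCat.{u}) adjB JB' JB
  let ψ := sqIso JB JA JB' JA' E aR bR E' er
  have hψ : ∀ M : Sh JA', bb.map (ψ.hom.app M) ≫ SB.counit.app ((res E' JB' JA').obj M) =
      τ.hom.app ((res aR JA JA').obj M) ≫ (res E' JB' JA').map (SA.counit.app M) := by
    intro M
    apply ObjectProperty.hom_ext
    ext x : 2
    show M.obj.map _ ≫ M.obj.map _ = M.obj.map _ ≫ M.obj.map _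
    rw [← M.obj.map_comp, ← M.obj.map_comp]
    congr 1
    apply Quiver.Hom.unop_inj
    exact (cancel_mono (er.hom.app (b.obj x.unop))).1 (@Subsingleton.elim _ (hthin _ _) _ _)
  have key : ∀ M : Sh JA', Function.Bijective fun g : aa.obj ((pb E JB JA).obj X) ⟶ M =>
      gam aE aE' bb aa τ X ≫ g := by
    intro M
    rw [← (aE'.homEquiv _ _).bijective.of_comp_iff']
    have e : ((aE'.homEquiv (bb.obj X) M) ∘ fun g : aa.obj ((pb E JB JA).obj X) ⟶ M => gam aE aE' bb aa τ X ≫ g) =
        ((SB.homEquiv X ((res E' JB' JA').obj M)).symm ∘ fun k : X ⟶ (res E JB JA).obj ((res aR JA JA').obj M) =>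
          k ≫ ψ.hom.app M) ∘ (aE.homEquiv X _) ∘ (SA.homEquiv _ M) := by
      funext g
      simp only [Function.comp_apply]
      rw [Adjunction.homEquiv_unit, Functor.map_comp, reassoc_of% gam_spec, Adjunction.homEquiv_counit]
      obtain ⟨h, rfl⟩ := (SA.homEquiv _ M).symm.surjective g
      rw [Equiv.apply_symm_apply, Adjunction.homEquiv_counit, Functor.map_comp, Adjunction.homEquiv_unit,
        Functor.map_comp bb, Functor.map_comp bb, Category.assoc, Category.assoc, hψ]
      have h1 := τ.hom.naturality h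
      simp only [Functor.comp_map] at h1
      simp only [Functor.comp_obj] at h1 ⊢
      rw [reassoc_of% h1]
    rw [e]
    exact ((Equiv.bijective _).comp (ψ.app M).homToEquiv.bijective).comp
      ((Equiv.bijective _).comp (Equiv.bijective _))
  obtain ⟨g, hg⟩ := (key _).2 (𝟙 _)
  exact ⟨g, hg, (key _).1 (by
    show gam aE aE' bb aa τ X ≫ g ≫ gam aE aE' bb aa τ X = gam aE aE' bb aa τ X ≫ 𝟙 _
    rw [reassoc_of% (show gam aE aE' bb aa τ X ≫ g = 𝟙 _ from hg), Category.comp_id])⟩

/-- the arrows into the image come from the part -/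
theorem isIso_rho_app [p.Full] [p.Faithful] [a.Full] [a.Faithful] (M : Sh JP) (c : A')
    (hess : ∀ (z : P) (f : i.obj z ⟶ a.obj c), ∃ z' : P', Nonempty (p.obj z' ≅ z)) :
    IsIso ((rho (rkAdj i JP JA) (rkAdj i' JP' JA') (res a JA' JA) (res p JP' JP)
      (sigmaIso JA JP JA' JP' i i' a p eσ) M).hom.app (op c)) := by
  let aI := rkAdj i JP JA
  let aI' := rkAdj i' JP' JA'
  let ρ := rho aI aI' (res a JA' JA) (res p JP' JP) (sigmaIso JA JP JA' JP' i i' a p eσ) M
  let Φ : StructuredArrow (op c) i'.op ⥤ StructuredArrow (op (a.obj c)) i.op :=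
    { obj := fun f => StructuredArrow.mk (Y := op (p.obj f.right.unop))
        (eσ.hom.app f.right.unop ≫ a.map f.hom.unop).op
      map := fun {f g} φ => StructuredArrow.homMk (p.map φ.right.unop).op (by
        apply Quiver.Hom.unop_inj
        show i.map (p.map φ.right.unop) ≫ eσ.hom.app f.right.unop ≫ a.map f.hom.unop =
          eσ.hom.app g.right.unop ≫ a.map g.hom.unop
        have hn := eσ.hom.naturality φ.right.unop
        simp only [Functor.comp_map] at hn
        simp only [Functor.comp_obj] at hn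
        rw [reassoc_of% hn, ← a.map_comp]
        congr 2
        exact congrArg Quiver.Hom.unop (StructuredArrow.w φ))
      map_id := fun f => StructuredArrow.ext _ _ (Quiver.Hom.unop_inj (p.map_id _))
      map_comp := fun φ ψ => StructuredArrow.ext _ _ (Quiver.Hom.unop_inj (p.map_comp _ _)) }
  haveI : Φ.Faithful := ⟨fun {f g φ ψ} h => StructuredArrow.ext _ _ (Quiver.Hom.unop_inj
    (p.map_injective (congrArg (fun k => k.right.unop) h)))⟩
  haveI : Φ.Full := ⟨fun {f g} ψ => by
    refine ⟨StructuredArrow.homMk (p.preimage ψ.right.unop).op ?_, StructuredArrow.ext _ _ (Quiver.Hom.unop_inj (p.map_preimage _))⟩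
    apply Quiver.Hom.unop_inj
    apply a.map_injective
    show a.map (i'.map (p.preimage ψ.right.unop) ≫ f.hom.unop) = a.map g.hom.unop
    rw [a.map_comp, ← cancel_epi (eσ.hom.app g.right.unop)]
    have hn := eσ.hom.naturality (p.preimage ψ.right.unop)
    simp only [Functor.comp_map] at hn
    simp only [Functor.comp_obj] at hn
    rw [← reassoc_of% hn, p.map_preimage]
    exact congrArg Quiver.Hom.unop (StructuredArrow.w ψ)⟩
  haveI : Φ.EssSurj := ⟨fun g => by
    obtain ⟨z', ⟨w⟩⟩ := hess g.right.unop g.hom.unop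
    let f₀ : i'.obj z' ⟶ c := a.preimage (eσ.inv.app z' ≫ i.map w.hom ≫ g.hom.unop)
    refine ⟨StructuredArrow.mk (Y := op z') f₀.op, ⟨StructuredArrow.isoMk w.symm.op ?_⟩⟩
    apply Quiver.Hom.unop_inj
    show i.map w.inv ≫ eσ.hom.app z' ≫ a.map f₀ = g.hom.unop
    simp only [f₀, a.map_preimage]
    rw [Iso.hom_inv_id_app_assoc, ← Functor.map_comp_assoc, Iso.inv_hom_id]
    simp⟩
  haveI : Φ.IsEquivalence := {}
  have hL := i.op.isPointwiseRightKanExtensionRanCounit M.obj (op (a.obj c))
  have hL' := i'.op.isPointwiseRightKanExtensionRanCounit ((res p JP' JP).obj M).obj (op c)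
  have hW := hL.whiskerEquivalence Φ.asEquivalence
  have hfac : ∀ f : StructuredArrow (op c) i'.op,
      ρ.hom.app (op c) ≫ ((RightExtension.mk _ (i'.op.ranCounit.app
        ((res p JP' JP).obj M).obj)).coneAt (op c)).π.app f =
      ((RightExtension.mk _ (i.op.ranCounit.app M.obj)).coneAt
        (op (a.obj c))).π.app (Φ.obj f) := by
    intro f
    have hρ : (res i' JP' JA').map ρ ≫ aI'.counit.app _ =
        (sigmaIso JA JP JA' JP' i i' a p eσ).inv.app ((rk i JP JA).obj M) ≫ (res p JP' JP).map (aI.counit.app M) := by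
      have h := (aI'.homEquiv _ _).symm_apply_apply
        ((sigmaIso JA JP JA' JP' i i' a p eσ).inv.app ((rk i JP JA).obj M) ≫ (res p JP' JP).map (aI.counit.app M))
      rw [Adjunction.homEquiv_counit] at h
      exact h
    have h2 := congrArg (fun t => t.hom.app f.right) hρ
    have hc : ∀ N : Sh JP, (aI.counit.app N).hom = (i.op.ranAdjunction AddCommGrpCat.{u}).counit.app N.obj :=
      fun N => Functor.sheafAdjunctionCocontinuous_counit_app_hom i AddCommGrpCat.{u} JP JA N
    have hc' : ∀ N : Sh JP', (aI'.counit.app N).hom = (i'.op.ranAdjunction AddCommGrpCat.{u}).counit.app N.obj :=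
      fun N => Functor.sheafAdjunctionCocontinuous_counit_app_hom i' AddCommGrpCat.{u} JP' JA' N
    show ρ.hom.app (op c) ≫ ((rk i' JP' JA').obj _).obj.map f.hom ≫ _ =
      ((rk i JP JA).obj M).obj.map (eσ.hom.app f.right.unop ≫ a.map f.hom.unop).op ≫ _
    rw [← reassoc_of% (ρ.hom.naturality f.hom), op_comp, Functor.map_comp, Category.assoc]
    refine congrArg (fun k => ((rk i JP JA).obj M).obj.map (a.map f.hom.unop).op ≫ k) ?_
    rw [Functor.ranAdjunction_counit] at hc hc'
    rw [← hc, ← hc']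
    exact h2
  have e : ρ.hom.app (op c) = hL'.lift
      ((Cone.postcompose (𝟙 _)).obj (((RightExtension.mk _ (i.op.ranCounit.app M.obj)).coneAt
        (op (a.obj c))).whisker Φ)) := hL'.hom_ext fun f => by
    rw [hfac, hL'.fac]
    exact (Category.comp_id _).symm
  rw [e]
  exact (IsLimit.conePointUniqueUpToIso ((IsLimit.postcomposeHomEquiv (Iso.refl _) _).symm hW) hL').isIso_hom

end Groth.Agent.FibDescLoc
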