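import Groth.Agent.FibDescLoc.Crit
import Groth.Agent.FibDescLoc.Site
import Groth.Agent.FibDescSplit.Top
import Mathlib

/-!
# Restricting an augmented indexed space to an open subspace of the base
-/

set_option backward.isDefEq.respectTransparency false
set_option backward.isDefEq.respectTransparency.types false
set_option linter.style.haveILetI false
set_option linter.unusedSectionVars false
set_option autoImplicit false
set_option synthInstance.maxHeartbeats 400000
set_option maxHeartbeats 1600000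

universe u

open CategoryTheory CategoryTheory.Limits Opposite Pseudofunctor Pseudofunctor.CoGrothendieck TopologicalSpace

namespace Groth.Agent.FibDescLoc

open FibDescSplit (Sh res pb rk pbAdj rkAdj total_hom_ext augLE le_aug isPreFibSite_aug isPreFibSite_part
  subsingleton_bot)

attribute [local instance] HasDerivedCategory.standard

variable {D : Type} [SmallCategory D]

/-- the adjunction of an augmented indexed space -/
noncomputable def mainAdj (Y : (WithInitial D)ᵒᵖ ⥤ TopCat.{u})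
    [(FibDesc.eps (FibDesc.topAug Y)).IsContinuous (FibDesc.topAugTop Y (FibDesc.bot D))
      (FibDesc.totAug (FibDesc.topAug Y) (FibDesc.topAugTop Y))]
    [(FibDesc.incl (FibDesc.topAug Y)).IsContinuous (FibDesc.totPart (FibDesc.topAug Y) (FibDesc.topAugTop Y))
      (FibDesc.totAug (FibDesc.topAug Y) (FibDesc.topAugTop Y))]
    [(FibDesc.incl (FibDesc.topAug Y)).IsCocontinuous (FibDesc.totPart (FibDesc.topAug Y) (FibDesc.topAugTop Y))
      (FibDesc.totAug (FibDesc.topAug Y) (FibDesc.topAugTop Y))] :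
    pb (FibDesc.eps (FibDesc.topAug Y)) (FibDesc.topAugTop Y (FibDesc.bot D))
        (FibDesc.totAug (FibDesc.topAug Y) (FibDesc.topAugTop Y)) ⋙
      res (FibDesc.incl (FibDesc.topAug Y)) (FibDesc.totPart (FibDesc.topAug Y) (FibDesc.topAugTop Y))
        (FibDesc.totAug (FibDesc.topAug Y) (FibDesc.topAugTop Y)) ⊣
      rk (FibDesc.incl (FibDesc.topAug Y)) (FibDesc.totPart (FibDesc.topAug Y) (FibDesc.topAugTop Y))
        (FibDesc.totAug (FibDesc.topAug Y) (FibDesc.topAugTop Y)) ⋙
      res (FibDesc.eps (FibDesc.topAug Y)) (FibDesc.topAugTop Y (FibDesc.bot D))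
        (FibDesc.totAug (FibDesc.topAug Y) (FibDesc.topAugTop Y)) :=
  (pbAdj _ _ _).comp (rkAdj _ _ _)

instance eps_continuous (Y : (WithInitial D)ᵒᵖ ⥤ TopCat.{u}) :
    (FibDesc.eps (FibDesc.topAug Y)).IsContinuous (FibDesc.topAugTop Y (FibDesc.bot D))
      (FibDesc.totAug (FibDesc.topAug Y) (FibDesc.topAugTop Y)) :=
  FibSiteLib.isContinuous_ι (isPreFibSite_aug Y) _

instance incl_continuous (Y : (WithInitial D)ᵒᵖ ⥤ TopCat.{u}) :
    (FibDesc.incl (FibDesc.topAug Y)).IsContinuous (FibDesc.totPart (FibDesc.topAug Y) (FibDesc.topAugTop Y))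
      (FibDesc.totAug (FibDesc.topAug Y) (FibDesc.topAugTop Y)) :=
  FibDescSplit.baseChangeFunctor_isContinuous (FibDesc.topAugTop Y) (FibDesc.toAug D) (isPreFibSite_aug Y)
    (isPreFibSite_part Y)

instance incl_cocontinuous (Y : (WithInitial D)ᵒᵖ ⥤ TopCat.{u}) :
    (FibDesc.incl (FibDesc.topAug Y)).IsCocontinuous (FibDesc.totPart (FibDesc.topAug Y) (FibDesc.topAugTop Y))
      (FibDesc.totAug (FibDesc.topAug Y) (FibDesc.topAugTop Y)) :=
  FibDescSplit.baseChangeFunctor_isCocontinuous (FibDesc.topAugTop Y) (FibDesc.toAug D) (isPreFibSite_aug Y)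
    (isPreFibSite_part Y)

instance pull_limits (Y : (WithInitial D)ᵒᵖ ⥤ TopCat.{u}) :
    PreservesFiniteLimits (pb (FibDesc.eps (FibDesc.topAug Y)) (FibDesc.topAugTop Y (FibDesc.bot D))
        (FibDesc.totAug (FibDesc.topAug Y) (FibDesc.topAugTop Y)) ⋙
      res (FibDesc.incl (FibDesc.topAug Y)) (FibDesc.totPart (FibDesc.topAug Y) (FibDesc.topAugTop Y))
        (FibDesc.totAug (FibDesc.topAug Y) (FibDesc.topAugTop Y))) :=
  haveI := FibDescSplit.eps_flat Y
  comp_preservesFiniteLimits _ _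

instance pull_colimits (Y : (WithInitial D)ᵒᵖ ⥤ TopCat.{u}) :
    PreservesFiniteColimits (pb (FibDesc.eps (FibDesc.topAug Y)) (FibDesc.topAugTop Y (FibDesc.bot D))
        (FibDesc.totAug (FibDesc.topAug Y) (FibDesc.topAugTop Y)) ⋙
      res (FibDesc.incl (FibDesc.topAug Y)) (FibDesc.totPart (FibDesc.topAug Y) (FibDesc.topAugTop Y))
        (FibDesc.totAug (FibDesc.topAug Y) (FibDesc.topAugTop Y))) :=
  comp_preservesFiniteColimits _ _

instance push_additive (Y : (WithInitial D)ᵒᵖ ⥤ TopCat.{u}) :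
    (rk (FibDesc.incl (FibDesc.topAug Y)) (FibDesc.totPart (FibDesc.topAug Y) (FibDesc.topAugTop Y))
        (FibDesc.totAug (FibDesc.topAug Y) (FibDesc.topAugTop Y)) ⋙
      res (FibDesc.eps (FibDesc.topAug Y)) (FibDesc.topAugTop Y (FibDesc.bot D))
        (FibDesc.totAug (FibDesc.topAug Y) (FibDesc.topAugTop Y))).Additive :=
  (mainAdj Y).right_adjoint_additive

theorem isCohDescentTop_iff_good (Y : (WithInitial D)ᵒᵖ ⥤ TopCat.{u}) :
    FibDesc.IsCohDescentTop Y ↔ Good (mainAdj Y) := by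
  constructor
  · rintro ⟨h1, h2, h3, h4, h5, h6, h⟩
    exact good_of_FF (mainAdj Y) h
  · intro hg
    exact ⟨inferInstance, inferInstance, inferInstance, inferInstance, inferInstance,
      inferInstanceAs (PreservesFiniteLimits (pb _ _ _ ⋙ res _ _ _)), FF_of_good (mainAdj Y) hg⟩

/-! ### open subspaces -/

variable {Y' Y : (WithInitial D)ᵒᵖ ⥤ TopCat.{u}} (τ : Y' ⟶ Y)
  (hτ : ∀ x, Topology.IsOpenEmbedding (τ.app x))

/-- the image of an open -/
def img {x : (WithInitial D)ᵒᵖ} (U : Opens (Y'.obj x)) : Opens (Y.obj x) :=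
  ⟨τ.app x '' (U : Set (Y'.obj x)), (hτ x).isOpenMap _ U.2⟩

theorem img_le {x y : (WithInitial D)ᵒᵖ} (g : x ⟶ y) {U : Opens (Y'.obj x)} {V : Opens (Y'.obj y)}
    (h : U ≤ (Opens.map (Y'.map g)).obj V) : img τ hτ U ≤ (Opens.map (Y.map g)).obj (img τ hτ V) := by
  rintro _ ⟨q, hq, rfl⟩
  refine ⟨Y'.map g q, h hq, ?_⟩
  exact ConcreteCategory.congr_hom (τ.naturality g) q

theorem pre_le {x y : (WithInitial D)ᵒᵖ} (g : x ⟶ y) {U : Opens (Y.obj x)} {V : Opens (Y.obj y)}
    (h : U ≤ (Opens.map (Y.map g)).obj V) :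
    (Opens.map (τ.app x)).obj U ≤ (Opens.map (Y'.map g)).obj ((Opens.map (τ.app y)).obj V) := by
  intro q hq
  show τ.app y (Y'.map g q) ∈ V
  have e : τ.app y (Y'.map g q) = Y.map g (τ.app x q) := ConcreteCategory.congr_hom (τ.naturality g) q
  rw [e]
  exact h hq

/-- inclusions in a fibre of the part -/
noncomputable def partLE {Z : (WithInitial D)ᵒᵖ ⥤ TopCat.{u}} {i : Dᵒᵖ}
    {U V : (FibDesc.part (FibDesc.topAug Z)).obj ⟨op i⟩}
    (h : (show Opens (Z.obj ((FibDesc.toAug D).obj i)) from U) ≤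
      (show Opens (Z.obj ((FibDesc.toAug D).obj i)) from V)) : U ⟶ V :=
  (homOfLE h : (show Opens (Z.obj ((FibDesc.toAug D).obj i)) from U) ⟶
    (show Opens (Z.obj ((FibDesc.toAug D).obj i)) from V))

theorem le_part {Z : (WithInitial D)ᵒᵖ ⥤ TopCat.{u}} {i : Dᵒᵖ}
    {U V : (FibDesc.part (FibDesc.topAug Z)).obj ⟨op i⟩} (f : U ⟶ V) :
    (show Opens (Z.obj ((FibDesc.toAug D).obj i)) from U) ≤
      (show Opens (Z.obj ((FibDesc.toAug D).obj i)) from V) :=
  leOfHom (show (show Opens (Z.obj ((FibDesc.toAug D).obj i)) from U) ⟶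
    (show Opens (Z.obj ((FibDesc.toAug D).obj i)) from V) from f)

/-- images on the augmented family -/
noncomputable def TA : ∫ᶜ (FibDesc.topAug Y') ⥤ ∫ᶜ (FibDesc.topAug Y) where
  obj x := ⟨x.base, img τ hτ x.fiber⟩
  map {x y} f := ⟨f.base, augLE Y (img_le τ hτ f.base (le_aug Y' f.fiber))⟩
  map_id x := total_hom_ext rfl
  map_comp f g := total_hom_ext rfl

/-- preimages on the augmented family -/
noncomputable def TR : ∫ᶜ (FibDesc.topAug Y) ⥤ ∫ᶜ (FibDesc.topAug Y') where
  obj x := ⟨x.base, (Opens.map (τ.app x.base)).obj x.fiber⟩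
  map {x y} f := ⟨f.base, augLE Y' (pre_le τ f.base (le_aug Y f.fiber))⟩
  map_id x := total_hom_ext rfl
  map_comp f g := total_hom_ext rfl

/-- images on the part -/
noncomputable def PA : ∫ᶜ (FibDesc.part (FibDesc.topAug Y')) ⥤ ∫ᶜ (FibDesc.part (FibDesc.topAug Y)) where
  obj x := ⟨x.base, img τ hτ x.fiber⟩
  map {x y} f := ⟨f.base, partLE (img_le τ hτ ((FibDesc.toAug D).map f.base) (le_part f.fiber))⟩
  map_id x := total_hom_ext rfl
  map_comp f g := total_hom_ext rfl

/-- preimages on the part -/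
noncomputable def PR : ∫ᶜ (FibDesc.part (FibDesc.topAug Y)) ⥤ ∫ᶜ (FibDesc.part (FibDesc.topAug Y')) where
  obj x := ⟨x.base, (Opens.map (τ.app ((FibDesc.toAug D).obj x.base))).obj x.fiber⟩
  map {x y} f := ⟨f.base, partLE (pre_le τ ((FibDesc.toAug D).map f.base) (le_part f.fiber))⟩
  map_id x := total_hom_ext rfl
  map_comp f g := total_hom_ext rfl

include hτ in
theorem img_le_iff_map {x y : (WithInitial D)ᵒᵖ} (g : x ⟶ y) (U : Opens (Y'.obj x)) (V : Opens (Y.obj y)) :
    img τ hτ U ≤ (Opens.map (Y.map g)).obj V ↔ U ≤ (Opens.map (Y'.map g)).obj ((Opens.map (τ.app y)).obj V) := by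
  constructor
  · intro h q hq
    show τ.app y (Y'.map g q) ∈ V
    have e : τ.app y (Y'.map g q) = Y.map g (τ.app x q) := ConcreteCategory.congr_hom (τ.naturality g) q
    rw [e]
    exact h ⟨q, hq, rfl⟩
  · rintro h _ ⟨q, hq, rfl⟩
    show Y.map g (τ.app x q) ∈ V
    have e : τ.app y (Y'.map g q) = Y.map g (τ.app x q) := ConcreteCategory.congr_hom (τ.naturality g) q
    rw [← e]
    exact h hq

/-- images are left adjoint to preimages -/
noncomputable def TAdj : TA τ hτ ⊣ TR τ :=
  Adjunction.mkOfHomEquiv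
    { homEquiv := fun x y =>
        { toFun := fun f => ⟨f.base, augLE Y' ((img_le_iff_map τ hτ f.base x.fiber y.fiber).1 (le_aug Y f.fiber))⟩
          invFun := fun f => ⟨f.base, augLE Y ((img_le_iff_map τ hτ f.base x.fiber y.fiber).2 (le_aug Y' f.fiber))⟩
          left_inv := fun f => total_hom_ext rfl
          right_inv := fun f => total_hom_ext rfl }
      homEquiv_naturality_left_symm := fun f g => total_hom_ext rfl
      homEquiv_naturality_right := fun f g => total_hom_ext rfl }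

/-- images are left adjoint to preimages on the part -/
noncomputable def PAdj : PA τ hτ ⊣ PR τ :=
  Adjunction.mkOfHomEquiv
    { homEquiv := fun x y =>
        { toFun := fun f => ⟨f.base, partLE ((img_le_iff_map τ hτ ((FibDesc.toAug D).map f.base) x.fiber y.fiber).1
            (le_part f.fiber))⟩
          invFun := fun f => ⟨f.base, partLE ((img_le_iff_map τ hτ ((FibDesc.toAug D).map f.base) x.fiber y.fiber).2
            (le_part f.fiber))⟩
          left_inv := fun f => total_hom_ext rfl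
          right_inv := fun f => total_hom_ext rfl }
      homEquiv_naturality_left_symm := fun f g => total_hom_ext rfl
      homEquiv_naturality_right := fun f g => total_hom_ext rfl }

instance TR_continuous : (TR τ).IsContinuous (FibDesc.totAug (FibDesc.topAug Y) (FibDesc.topAugTop Y))
    (FibDesc.totAug (FibDesc.topAug Y') (FibDesc.topAugTop Y')) := by
  rw [FibSiteLib.isContinuous_total_iff (isPreFibSite_aug Y)]
  intro S
  let m : (FibDesc.topAug Y).obj ⟨op S⟩ ⥤ (FibDesc.topAug Y').obj ⟨op S⟩ := Opens.map (τ.app S)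
  haveI : m.IsContinuous (FibDesc.topAugTop Y S) (FibDesc.topAugTop Y' S) :=
    inferInstanceAs ((Opens.map (τ.app S)).IsContinuous (Opens.grothendieckTopology (Y.obj S))
      (Opens.grothendieckTopology (Y'.obj S)))
  haveI := FibSiteLib.isContinuous_ι (isPreFibSite_aug Y') S
  haveI := Functor.isContinuous_comp m (ι (FibDesc.topAug Y') S) (FibDesc.topAugTop Y S) (FibDesc.topAugTop Y' S)
    (FibDesc.totAug (FibDesc.topAug Y') (FibDesc.topAugTop Y'))
  refine Functor.isContinuous_of_iso (F₁ := m ⋙ ι (FibDesc.topAug Y') S) ?_ _ _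
  exact NatIso.ofComponents (fun U => Iso.refl _) (fun {U V} f => total_hom_ext (by simp; rfl))

theorem PR_continuous : (PR τ).IsContinuous (FibDesc.totPart (FibDesc.topAug Y) (FibDesc.topAugTop Y))
    (FibDesc.totPart (FibDesc.topAug Y') (FibDesc.topAugTop Y')) := by
  rw [FibSiteLib.isContinuous_total_iff (isPreFibSite_part Y)]
  intro S
  let m : (FibDesc.part (FibDesc.topAug Y)).obj ⟨op S⟩ ⥤ (FibDesc.part (FibDesc.topAug Y')).obj ⟨op S⟩ :=
    Opens.map (τ.app ((FibDesc.toAug D).obj S))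
  haveI : m.IsContinuous (FibDesc.partTop (FibDesc.topAug Y) (FibDesc.topAugTop Y) S)
      (FibDesc.partTop (FibDesc.topAug Y') (FibDesc.topAugTop Y') S) :=
    inferInstanceAs ((Opens.map (τ.app ((FibDesc.toAug D).obj S))).IsContinuous
      (Opens.grothendieckTopology (Y.obj ((FibDesc.toAug D).obj S)))
      (Opens.grothendieckTopology (Y'.obj ((FibDesc.toAug D).obj S))))
  haveI := FibSiteLib.isContinuous_ι (isPreFibSite_part Y') S
  haveI := Functor.isContinuous_comp m (ι (FibDesc.part (FibDesc.topAug Y')) S)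
    (FibDesc.partTop (FibDesc.topAug Y) (FibDesc.topAugTop Y) S)
    (FibDesc.partTop (FibDesc.topAug Y') (FibDesc.topAugTop Y') S)
    (FibDesc.totPart (FibDesc.topAug Y') (FibDesc.topAugTop Y'))
  refine Functor.isContinuous_of_iso (F₁ := m ⋙ ι (FibDesc.part (FibDesc.topAug Y')) S) ?_ _ _
  exact NatIso.ofComponents (fun U => Iso.refl _) (fun {U V} f => total_hom_ext (by simp; rfl))

theorem TA_continuous : (TA τ hτ).IsContinuous (FibDesc.totAug (FibDesc.topAug Y') (FibDesc.topAugTop Y'))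
    (FibDesc.totAug (FibDesc.topAug Y) (FibDesc.topAugTop Y)) := by
  rw [FibSiteLib.isContinuous_total_iff (isPreFibSite_aug Y')]
  intro S
  let m : (FibDesc.topAug Y').obj ⟨op S⟩ ⥤ (FibDesc.topAug Y).obj ⟨op S⟩ := (hτ S).functor
  haveI : m.IsContinuous (FibDesc.topAugTop Y' S) (FibDesc.topAugTop Y S) := (hτ S).functor_isContinuous
  haveI := FibSiteLib.isContinuous_ι (isPreFibSite_aug Y) S
  haveI := Functor.isContinuous_comp m (ι (FibDesc.topAug Y) S) (FibDesc.topAugTop Y' S) (FibDesc.topAugTop Y S)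
    (FibDesc.totAug (FibDesc.topAug Y) (FibDesc.topAugTop Y))
  refine Functor.isContinuous_of_iso (F₁ := m ⋙ ι (FibDesc.topAug Y) S) ?_ _ _
  exact NatIso.ofComponents (fun U => Iso.refl _) (fun {U V} f => total_hom_ext (by simp; rfl))

theorem PA_continuous : (PA τ hτ).IsContinuous (FibDesc.totPart (FibDesc.topAug Y') (FibDesc.topAugTop Y'))
    (FibDesc.totPart (FibDesc.topAug Y) (FibDesc.topAugTop Y)) := by
  rw [FibSiteLib.isContinuous_total_iff (isPreFibSite_part Y')]
  intro S
  let m : (FibDesc.part (FibDesc.topAug Y')).obj ⟨op S⟩ ⥤ (FibDesc.part (FibDesc.topAug Y)).obj ⟨op S⟩ :=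
    (hτ ((FibDesc.toAug D).obj S)).functor
  haveI : m.IsContinuous (FibDesc.partTop (FibDesc.topAug Y') (FibDesc.topAugTop Y') S)
      (FibDesc.partTop (FibDesc.topAug Y) (FibDesc.topAugTop Y) S) := (hτ _).functor_isContinuous
  haveI := FibSiteLib.isContinuous_ι (isPreFibSite_part Y) S
  haveI := Functor.isContinuous_comp m (ι (FibDesc.part (FibDesc.topAug Y)) S)
    (FibDesc.partTop (FibDesc.topAug Y') (FibDesc.topAugTop Y') S)
    (FibDesc.partTop (FibDesc.topAug Y) (FibDesc.topAugTop Y) S)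
    (FibDesc.totPart (FibDesc.topAug Y) (FibDesc.topAugTop Y))
  refine Functor.isContinuous_of_iso (F₁ := m ⋙ ι (FibDesc.part (FibDesc.topAug Y)) S) ?_ _ _
  exact NatIso.ofComponents (fun U => Iso.refl _) (fun {U V} f => total_hom_ext (by simp; rfl))

theorem TA_full : (TA τ hτ).Full := ⟨fun {x y} f => by
  refine ⟨⟨f.base, augLE Y' fun q hq => ?_⟩, total_hom_ext rfl⟩
  obtain ⟨w, hw, e⟩ := le_aug Y f.fiber ⟨q, hq, rfl⟩
  have e' : τ.app y.base (Y'.map f.base q) = Y.map f.base (τ.app x.base q) :=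
    ConcreteCategory.congr_hom (τ.naturality f.base) q
  show Y'.map f.base q ∈ (show Opens (Y'.obj y.base) from y.fiber)
  rw [show Y'.map f.base q = w from (hτ y.base).injective (e'.trans e.symm)]
  exact hw⟩

theorem TA_faithful : (TA τ hτ).Faithful :=
  ⟨fun {x y f g} h => total_hom_ext (congrArg CoGrothendieck.Hom.base h :)⟩

theorem PA_full : (PA τ hτ).Full := ⟨fun {x y} f => by
  refine ⟨⟨f.base, partLE fun q hq => ?_⟩, total_hom_ext rfl⟩
  obtain ⟨w, hw, e⟩ := le_part f.fiber ⟨q, hq, rfl⟩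
  have e' : τ.app ((FibDesc.toAug D).obj y.base) (Y'.map ((FibDesc.toAug D).map f.base) q) =
      Y.map ((FibDesc.toAug D).map f.base) (τ.app ((FibDesc.toAug D).obj x.base) q) :=
    ConcreteCategory.congr_hom (τ.naturality ((FibDesc.toAug D).map f.base)) q
  show Y'.map ((FibDesc.toAug D).map f.base) q ∈ (show Opens (Y'.obj ((FibDesc.toAug D).obj y.base)) from y.fiber)
  rw [show Y'.map ((FibDesc.toAug D).map f.base) q = w from (hτ _).injective (e'.trans e.symm)]
  exact hw⟩

theorem PA_faithful : (PA τ hτ).Faithful :=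
  ⟨fun {x y f g} h => total_hom_ext (congrArg CoGrothendieck.Hom.base h :)⟩

/-- the base map of an object -/
noncomputable abbrev toBot (x : (WithInitial D)ᵒᵖ) : x ⟶ FibDesc.bot D :=
  ((WithInitial.starInitial (C := D)).to x.unop).op

variable (hcart : ∀ (x : (WithInitial D)ᵒᵖ) (y : Y.obj x),
  Y.map (toBot x) y ∈ Set.range (τ.app (FibDesc.bot D)) → y ∈ Set.range (τ.app x))

include hτ hcart in
theorem le_img_pre {x y : (WithInitial D)ᵒᵖ} (g : x ⟶ y) {W : Opens (Y.obj x)} {V : Opens (Y'.obj y)}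
    (h : W ≤ (Opens.map (Y.map g)).obj (img τ hτ V)) : W ≤ img τ hτ ((Opens.map (τ.app x)).obj W) := by
  intro q hq
  obtain ⟨w, -, e⟩ := h hq
  haveI := subsingleton_bot (D := D) x
  obtain ⟨v, rfl⟩ := hcart x q ⟨Y'.map (toBot y) w, by
    show τ.app _ (Y'.map (toBot y) w) = Y.map (toBot x) q
    rw [Subsingleton.elim (toBot x) (g ≫ toBot y), Y.map_comp]
    have e2 : τ.app _ (Y'.map (toBot y) w) = Y.map (toBot y) (τ.app y w) :=
      ConcreteCategory.congr_hom (τ.naturality (toBot y)) w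
    rw [e2, e]
    rfl⟩
  exact ⟨v, hq, rfl⟩

include hcart in
theorem PA_hasPartialAdj : HasPartialAdj (PA τ hτ) := fun W => by
  by_cases h : (show Opens (Y.obj ((FibDesc.toAug D).obj W.base)) from W.fiber) ≤
      img τ hτ ((Opens.map (τ.app ((FibDesc.toAug D).obj W.base))).obj W.fiber)
  · refine Or.inr ⟨⟨W.base, (Opens.map (τ.app ((FibDesc.toAug D).obj W.base))).obj W.fiber⟩,
      ⟨𝟙 _, partLE (fun q hq => by
        show (Y.map ((FibDesc.toAug D).map (𝟙 W.base))) q ∈ img τ hτ ((Opens.map (τ.app ((FibDesc.toAug D).obj W.base))).obj W.fiber)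
        rw [(FibDesc.toAug D).map_id, Y.map_id]
        exact h hq)⟩, fun c => ⟨fun g g' e => total_hom_ext ?_, fun k => ?_⟩⟩
    · have h1 : 𝟙 W.base ≫ g.base = 𝟙 W.base ≫ g'.base := (congrArg CoGrothendieck.Hom.base e :)
      simpa using h1
    · refine ⟨⟨k.base, partLE fun q hq => ?_⟩, total_hom_ext (Category.id_comp _)⟩
      obtain ⟨w, hw, e⟩ := le_part k.fiber hq
      have e' : τ.app ((FibDesc.toAug D).obj c.base) (Y'.map ((FibDesc.toAug D).map k.base) q) =
          Y.map ((FibDesc.toAug D).map k.base) (τ.app ((FibDesc.toAug D).obj W.base) q) :=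
        ConcreteCategory.congr_hom (τ.naturality ((FibDesc.toAug D).map k.base)) q
      show Y'.map ((FibDesc.toAug D).map k.base) q ∈ (show Opens (Y'.obj ((FibDesc.toAug D).obj c.base)) from c.fiber)
      rw [show Y'.map ((FibDesc.toAug D).map k.base) q = w from (hτ _).injective (e'.trans e.symm)]
      exact hw
  · exact Or.inl fun c => ⟨fun k => h (le_img_pre τ hτ hcart ((FibDesc.toAug D).map k.base) (le_part k.fiber))⟩

include hτ hcart in
theorem good_restrict (h : Good (mainAdj Y')) (X : Sh (FibDesc.topAugTop Y (FibDesc.bot D))) :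
    haveI := (hτ (FibDesc.bot D)).functor_isContinuous
    IsIso ((res (hτ (FibDesc.bot D)).functor (Opens.grothendieckTopology (Y'.obj (FibDesc.bot D)))
        (Opens.grothendieckTopology (Y.obj (FibDesc.bot D)))).map ((mainAdj Y).unit.app X)) ∧
      ∀ q : ℕ, 0 < q → IsZero ((res (hτ (FibDesc.bot D)).functor (Opens.grothendieckTopology (Y'.obj (FibDesc.bot D)))
        (Opens.grothendieckTopology (Y.obj (FibDesc.bot D)))).obj
          (((rk (FibDesc.incl (FibDesc.topAug Y)) (FibDesc.totPart (FibDesc.topAug Y) (FibDesc.topAugTop Y))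
              (FibDesc.totAug (FibDesc.topAug Y) (FibDesc.topAugTop Y)) ⋙
            res (FibDesc.eps (FibDesc.topAug Y)) (FibDesc.topAugTop Y (FibDesc.bot D))
              (FibDesc.totAug (FibDesc.topAug Y) (FibDesc.topAugTop Y))).rightDerived q).obj
            ((pb (FibDesc.eps (FibDesc.topAug Y)) (FibDesc.topAugTop Y (FibDesc.bot D))
                (FibDesc.totAug (FibDesc.topAug Y) (FibDesc.topAugTop Y)) ⋙
              res (FibDesc.incl (FibDesc.topAug Y)) (FibDesc.totPart (FibDesc.topAug Y) (FibDesc.topAugTop Y))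
                (FibDesc.totAug (FibDesc.topAug Y) (FibDesc.topAugTop Y))).obj X))) := by
  let JB := FibDesc.topAugTop Y (FibDesc.bot D)
  let JA := FibDesc.totAug (FibDesc.topAug Y) (FibDesc.topAugTop Y)
  let JP := FibDesc.totPart (FibDesc.topAug Y) (FibDesc.topAugTop Y)
  let JB' := FibDesc.topAugTop Y' (FibDesc.bot D)
  let JA' := FibDesc.totAug (FibDesc.topAug Y') (FibDesc.topAugTop Y')
  let JP' := FibDesc.totPart (FibDesc.topAug Y') (FibDesc.topAugTop Y')
  let E := FibDesc.eps (FibDesc.topAug Y)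
  let E' := FibDesc.eps (FibDesc.topAug Y')
  let i := FibDesc.incl (FibDesc.topAug Y)
  let i' := FibDesc.incl (FibDesc.topAug Y')
  let b : (FibDesc.topAug Y').obj ⟨op (FibDesc.bot D)⟩ ⥤ (FibDesc.topAug Y).obj ⟨op (FibDesc.bot D)⟩ :=
    (hτ (FibDesc.bot D)).functor
  let bR : (FibDesc.topAug Y).obj ⟨op (FibDesc.bot D)⟩ ⥤ (FibDesc.topAug Y').obj ⟨op (FibDesc.bot D)⟩ :=
    Opens.map (τ.app (FibDesc.bot D))
  let a := TA τ hτ
  let p := PA τ hτ
  haveI : b.IsContinuous JB' JB := (hτ (FibDesc.bot D)).functor_isContinuous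
  haveI : bR.IsContinuous JB JB' := inferInstanceAs ((Opens.map (τ.app (FibDesc.bot D))).IsContinuous
    (Opens.grothendieckTopology (Y.obj (FibDesc.bot D))) (Opens.grothendieckTopology (Y'.obj (FibDesc.bot D))))
  haveI : a.IsContinuous JA' JA := TA_continuous τ hτ
  haveI : p.IsContinuous JP' JP := PA_continuous τ hτ
  haveI : (PR τ).IsContinuous JP JP' := PR_continuous τ
  haveI := TA_full τ hτ; haveI := TA_faithful τ hτ; haveI := PA_full τ hτ; haveI := PA_faithful τ hτ
  let eτ : b ⋙ E ≅ E' ⋙ a :=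
    NatIso.ofComponents (fun U => Iso.refl _) (fun {U V} f => total_hom_ext (by simp; rfl))
  let eσ : p ⋙ i ≅ i' ⋙ a :=
    NatIso.ofComponents (fun U => Iso.refl _) (fun {U V} f => total_hom_ext (by simp; rfl))
  let er : E ⋙ TR τ ≅ bR ⋙ E' :=
    NatIso.ofComponents (fun U => Iso.refl _) (fun {U V} f => total_hom_ext (by simp; rfl))
  let adjB : b ⊣ bR := (hτ (FibDesc.bot D)).isOpenMap.adjunction
  have hthin : ∀ (U : (FibDesc.topAug Y').obj ⟨op (FibDesc.bot D)⟩) (x : ∫ᶜ (FibDesc.topAug Y')),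
      Subsingleton (x ⟶ E'.obj U) := fun U x =>
    ⟨fun f g => total_hom_ext ((subsingleton_bot x.base).elim _ _)⟩
  let σI := sigmaIso JA JP JA' JP' i i' a p eσ
  let τI := tauIso JB JA JB' JA' E E' b a eτ
  have hγ := isIso_gam JB JA JB' JA' E E' b a eτ (TR τ) bR (TAdj τ hτ) adjB er hthin
  have hρ : ∀ M : Sh JP, IsIso ((res E' JB' JA').map
      (rho (rkAdj i JP JA) (rkAdj i' JP' JA') (res a JA' JA) (res p JP' JP) σI M)) := fun M => by
    haveI : ∀ U, IsIso (((sheafToPresheaf JB' AddCommGrpCat.{u}).map ((res E' JB' JA').map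
        (rho (rkAdj i JP JA) (rkAdj i' JP' JA') (res a JA' JA) (res p JP' JP) σI M))).app U) := fun U =>
      isIso_rho_app JA JP JA' JP' i i' a p eσ M (E'.obj U.unop) fun z f => by
        refine ⟨⟨z.base, (Opens.map (τ.app ((FibDesc.toAug D).obj z.base))).obj z.fiber⟩,
          ⟨(ι (FibDesc.part (FibDesc.topAug Y)) z.base).mapIso (eqToIso ?_)⟩⟩
        show img τ hτ ((Opens.map (τ.app ((FibDesc.toAug D).obj z.base))).obj z.fiber) =
          (show Opens (Y.obj ((FibDesc.toAug D).obj z.base)) from z.fiber)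
        refine le_antisymm ?_ (le_img_pre τ hτ hcart f.base (le_aug Y f.fiber))
        rintro _ ⟨q, hq, rfl⟩
        exact hq
    haveI := NatIso.isIso_of_isIso_app ((sheafToPresheaf JB' AddCommGrpCat.{u}).map ((res E' JB' JA').map
      (rho (rkAdj i JP JA) (rkAdj i' JP' JA') (res a JA' JA) (res p JP' JP) σI M)))
    exact isIso_of_reflects_iso _ (sheafToPresheaf JB' AddCommGrpCat.{u})
  let β := pullIso (pbAdj E JB JA) (pbAdj E' JB' JA') (res b JB' JB) (res a JA' JA) (res p JP' JP) σI τI hγ X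
  let ePush := pushIso (rkAdj i JP JA) (rkAdj i' JP' JA') (res b JB' JB) (res a JA' JA) (res p JP' JP) σI τI hρ
  haveI hB : PreservesFiniteColimits (res b JB' JB) :=
    haveI : PreservesColimitsOfSize.{0, 0} (res b JB' JB) :=
      (Adjunction.sheafPushforwardContinuous (E := AddCommGrpCat.{u}) adjB JB' JB).leftAdjoint_preservesColimits
    PreservesColimitsOfSize.preservesFiniteColimits _
  haveI hP : PreservesFiniteColimits (res p JP' JP) :=
    haveI : PreservesColimitsOfSize.{0, 0} (res p JP' JP) :=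
      (Adjunction.sheafPushforwardContinuous (E := AddCommGrpCat.{u}) (PAdj τ hτ) JP' JP).leftAdjoint_preservesColimits
    PreservesColimitsOfSize.preservesFiniteColimits _
  haveI := preservesInjective_res p JP' JP (PA_hasPartialAdj τ hτ hcart)
  refine ⟨?_, fun q hq => ?_⟩
  · haveI : IsIso (((pbAdj E' JB' JA').comp (rkAdj i' JP' JA')).unit.app ((res b JB' JB).obj X)) :=
      (h ((res b JB' JB).obj X)).1
    exact isIso_map_unit (pbAdj E JB JA) (rkAdj i JP JA) (pbAdj E' JB' JA') (rkAdj i' JP' JA')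
      (res b JB' JB) (res a JA' JA) (res p JP' JP) σI τI hρ hγ X
  · obtain ⟨e⟩ := nonempty_rightDerived_iso _ (rk i' JP' JA' ⋙ res E' JB' JA') (res p JP' JP) (res b JB' JB)
      ePush q ((pb E JB JA ⋙ res i JP JA).obj X)
    exact ((h ((res b JB' JB).obj X)).2 q hq).of_iso
      (e ≪≫ ((rk i' JP' JA' ⋙ res E' JB' JA').rightDerived q).mapIso β.symm)

end Groth.Agent.FibDescLoc
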