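import Groth.Agent.FibDescLoc.Space
import Mathlib

/-!
# Total sites of diagrams of spaces
-/

set_option backward.isDefEq.respectTransparency false
set_option backward.isDefEq.respectTransparency.types false
set_option linter.style.haveILetI false
set_option linter.unusedSectionVars false
set_option autoImplicit false
set_option synthInstance.maxHeartbeats 400000
set_option maxHeartbeats 1600000

universe u

open CategoryTheory CategoryTheory.Limits Opposite Pseudofunctor Pseudofunctor.CoGrothendieck TopologicalSpace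

namespace Groth.Agent.FibDescLoc

open FibDescSplit (Sh res pb rk pbAdj rkAdj total_hom_ext)

variable {𝒮 : Type} [SmallCategory 𝒮]

/-- the fibred category of opens of a diagram of spaces -/
noncomputable abbrev tp (Z : 𝒮 ⥤ TopCat.{u}) : Pseudofunctor (LocallyDiscrete 𝒮ᵒᵖ) Cat.{u, u} :=
  (Z.op ⋙ FibDesc.opensCat).toPseudofunctor'

/-- its topologies -/
abbrev tpTop (Z : 𝒮 ⥤ TopCat.{u}) : FibSite.Topologies (tp Z) :=
  fun i => Opens.grothendieckTopology (Z.obj i)

/-- the total category -/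
abbrev TS (Z : 𝒮 ⥤ TopCat.{u}) : Type u := ∫ᶜ (tp Z)

/-- the total topology -/
noncomputable abbrev tJ (Z : 𝒮 ⥤ TopCat.{u}) : GrothendieckTopology (TS Z) :=
  FibSite.totalTopology (tp Z) (tpTop Z)

instance thin_tp (Z : 𝒮 ⥤ TopCat.{u}) (S : 𝒮) : Quiver.IsThin ((tp Z).obj ⟨op S⟩) :=
  fun a b => inferInstanceAs (Subsingleton ((show Opens (Z.obj S) from a) ⟶ (show Opens (Z.obj S) from b)))

theorem isPreFibSite_tp (Z : 𝒮 ⥤ TopCat.{u}) : FibSite.IsPreFibSite (tp Z) (tpTop Z) := fun i j f =>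
  inferInstanceAs ((Opens.map (Z.map f)).IsContinuous (Opens.grothendieckTopology (Z.obj j))
    (Opens.grothendieckTopology (Z.obj i)))

variable {Z : 𝒮 ⥤ TopCat.{u}}

/-- inclusions in a fibre -/
noncomputable def tpLE {i : 𝒮} {U V : (tp Z).obj ⟨op i⟩}
    (h : (show Opens (Z.obj i) from U) ≤ (show Opens (Z.obj i) from V)) : U ⟶ V :=
  (homOfLE h : (show Opens (Z.obj i) from U) ⟶ (show Opens (Z.obj i) from V))

theorem le_tp {i : 𝒮} {U V : (tp Z).obj ⟨op i⟩} (f : U ⟶ V) :
    (show Opens (Z.obj i) from U) ≤ (show Opens (Z.obj i) from V) :=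
  leOfHom (show (show Opens (Z.obj i) from U) ⟶ (show Opens (Z.obj i) from V) from f)

/-- objects -/
abbrev tobj (Z : 𝒮 ⥤ TopCat.{u}) (i : 𝒮) (U : Opens (Z.obj i)) : TS Z := ⟨i, U⟩

/-- morphisms -/
noncomputable def tmk {x y : TS Z} (g : x.base ⟶ y.base)
    (h : (show Opens (Z.obj x.base) from x.fiber) ≤
      (Opens.map (Z.map g)).obj (show Opens (Z.obj y.base) from y.fiber)) : x ⟶ y :=
  ⟨g, tpLE h⟩

theorem le_hom {x y : TS Z} (f : x ⟶ y) :
    (show Opens (Z.obj x.base) from x.fiber) ≤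
      (Opens.map (Z.map f.base)).obj (show Opens (Z.obj y.base) from y.fiber) :=
  le_tp f.fiber

section Mor

variable {𝒯 : Type} [SmallCategory 𝒯] {Z' : 𝒯 ⥤ TopCat.{u}} (χ : 𝒯 ⥤ 𝒮) (τ : χ ⋙ Z ⟶ Z')

theorem mor_le {x y : TS Z'} (f : x ⟶ y) :
    (Opens.map (τ.app x.base)).obj x.fiber ≤
      (Opens.map (Z.map (χ.map f.base))).obj ((Opens.map (τ.app y.base)).obj y.fiber) := by
  intro q hq
  show τ.app y.base (Z.map (χ.map f.base) q) ∈ (show Opens (Z'.obj y.base) from y.fiber)
  have e : τ.app y.base (Z.map (χ.map f.base) q) = Z'.map f.base (τ.app x.base q) :=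
    ConcreteCategory.congr_hom (τ.naturality f.base) q
  rw [e]
  exact le_hom f hq

/-- the functor of total categories -/
noncomputable def Mor : TS Z' ⥤ TS Z where
  obj x := tobj Z (χ.obj x.base) ((Opens.map (τ.app x.base)).obj x.fiber)
  map {x y} f := tmk (χ.map f.base) (mor_le χ τ f)
  map_id x := total_hom_ext (χ.map_id _)
  map_comp f g := total_hom_ext (χ.map_comp _ _)

instance Mor_continuous : (Mor χ τ).IsContinuous (tJ Z') (tJ Z) := by
  rw [FibSiteLib.isContinuous_total_iff (isPreFibSite_tp Z')]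
  intro S
  let m : (tp Z').obj ⟨op S⟩ ⥤ (tp Z).obj ⟨op (χ.obj S)⟩ := Opens.map (τ.app S)
  haveI : m.IsContinuous (tpTop Z' S) (tpTop Z (χ.obj S)) :=
    inferInstanceAs ((Opens.map (τ.app S)).IsContinuous (Opens.grothendieckTopology (Z'.obj S))
      (Opens.grothendieckTopology ((χ ⋙ Z).obj S)))
  haveI := FibSiteLib.isContinuous_ι (isPreFibSite_tp Z) (χ.obj S)
  haveI := Functor.isContinuous_comp m (ι (tp Z) (χ.obj S)) (tpTop Z' S) (tpTop Z (χ.obj S)) (tJ Z)
  refine Functor.isContinuous_of_iso (F₁ := m ⋙ ι (tp Z) (χ.obj S)) ?_ _ _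
  exact NatIso.ofComponents (fun U => Iso.refl _) (fun {U V} f => total_hom_ext (by
    show 𝟙 (χ.obj S) ≫ 𝟙 (χ.obj S) = 𝟙 (χ.obj S) ≫ χ.map (𝟙 S)
    rw [χ.map_id]))

theorem Mor_isCocontinuous [∀ x, IsIso (τ.app x)] : (Mor χ τ).IsCocontinuous (tJ Z') (tJ Z) := by
  refine ⟨fun {X S} hS => ?_⟩
  rw [FibSiteLib.mem_totalTopology_iff (isPreFibSite_tp Z')]
  have h := (FibSiteLib.mem_totalTopology_iff (isPreFibSite_tp Z) S).1 hS
  intro q hq
  let q' : Z.obj (χ.obj X.base) := inv (τ.app X.base) q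
  have hq' : τ.app X.base q' = q := ConcreteCategory.congr_hom (IsIso.inv_hom_id (τ.app X.base)) q
  obtain ⟨W, w, hw, hqW⟩ := h q' (by show τ.app X.base q' ∈ (show Opens (Z'.obj X.base) from X.fiber); rw [hq']; exact hq)
  let W' : Opens (Z'.obj X.base) := (Opens.map (inv (τ.app X.base))).obj W
  have hW' : W' ≤ (show Opens (Z'.obj X.base) from X.fiber) := fun r hr => by
    have := le_tp w hr
    have e : τ.app X.base (inv (τ.app X.base) r) = r :=
      ConcreteCategory.congr_hom (IsIso.inv_hom_id (τ.app X.base)) r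
    rw [← e]
    exact this
  refine ⟨W', homOfLE hW', ?_, hqW⟩
  have hle : (Opens.map (τ.app X.base)).obj W' ≤ (show Opens (Z.obj (χ.obj X.base)) from W) := fun r hr => by
    have e : inv (τ.app X.base) (τ.app X.base r) = r :=
      ConcreteCategory.congr_hom (IsIso.hom_inv_id (τ.app X.base)) r
    rw [← e]
    exact hr
  change S.arrows ((Mor χ τ).map ((ι (tp Z') X.base).map (tpLE hW')))
  have e : (Mor χ τ).map ((ι (tp Z') X.base).map (tpLE hW')) =
      tmk (x := (Mor χ τ).obj (tobj Z' X.base W')) (y := tobj Z (χ.obj X.base) W) (𝟙 _)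
        (fun r hr => by
          show Z.map (𝟙 (χ.obj X.base)) r ∈ (show Opens (Z.obj (χ.obj X.base)) from W)
          rw [Z.map_id]
          exact hle hr) ≫ (ι (tp Z) (χ.obj X.base)).map w :=
    total_hom_ext (by
      show χ.map (𝟙 X.base) = 𝟙 (χ.obj X.base) ≫ 𝟙 (χ.obj X.base)
      rw [χ.map_id, Category.id_comp])
  rw [e]
  exact S.downward_closed hw _

end Mor

end Groth.Agent.FibDescLoc
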